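import Mathlib

/-!
# Self-normalising subgroups of prime order; fixed points
-/

set_option autoImplicit false
open Subgroup MulAction

namespace Cfsg.Agent.H448.FprExc

/-- fixed points of an element of order `p` on a subgroup -/
theorem card_fix_mod {G : Type*} [Group G] [Finite G] {p : ℕ} [hp : Fact p.Prime] {x : G} (hx : orderOf x = p)
    (A : Subgroup G) (hA : ∀ a ∈ A, x * a * x⁻¹ ∈ A) (h1 : ∀ a ∈ A, x * a = a * x → a = 1) :
    Nat.card A ≡ 1 [MOD p] := by
  classical
  have := Fintype.ofFinite G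
  let f : Function.End A := fun a => ⟨x * a * x⁻¹, hA a a.2⟩
  have hf : ∀ m : ℕ, ∀ a : A, (((f ^ m) a : A) : G) = x ^ m * a * (x ^ m)⁻¹ := by
    intro m
    induction m with
    | zero =>
      intro a
      change (a : G) = _
      simp
    | succ m ih =>
      intro a
      rw [pow_succ']
      change x * ((f ^ m) a : A) * x⁻¹ = _
      rw [ih, pow_succ']
      group
  have h2 : f ^ p ^ 1 = 1 := by
    funext a
    apply Subtype.ext
    rw [hf, pow_one, ← hx, pow_orderOf_eq_one]
    change _ = (a : G)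
    simp
  have h3 := Equiv.Perm.card_fixedPoints_modEq h2
  rw [← Nat.card_eq_fintype_card, ← Nat.card_eq_fintype_card] at h3
  have h4 : Nat.card (Function.fixedPoints f) = 1 := by
    rw [Nat.card_eq_one_iff_unique]
    have key : ∀ a : Function.fixedPoints f, a.1 = 1 := by
      intro a
      have h5 := congrArg Subtype.val a.2
      change x * a.1.1 * x⁻¹ = a.1.1 at h5
      exact Subtype.ext (h1 _ a.1.2 (mul_inv_eq_iff_eq_mul.1 h5))
    refine ⟨⟨fun a b => Subtype.ext ((key a).trans (key b).symm)⟩, ⟨⟨1, ?_⟩⟩⟩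
    apply Subtype.ext
    change x * 1 * x⁻¹ = 1
    group
  rwa [h4] at h3

/-- a group with a self-normalising subgroup of prime order `p`, `p²` not dividing the order -/
theorem sylow_mod {H : Type*} [Group H] [Finite H] {p s : ℕ} [hp : Fact p.Prime] [hs : Fact s.Prime] (hsp : s ≠ p)
    (hp2 : ¬ p ^ 2 ∣ Nat.card H) {x : H} (hx : orderOf x = p)
    (hN : Nat.card (normalizer ((zpowers x : Subgroup H) : Set H)) ≤ p) (S : Sylow s H) :
    Nat.card S ≡ 1 [MOD p] := by
  classical
  have hxN : zpowers x ≤ normalizer ((zpowers x : Subgroup H) : Set H) := le_normalizer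
  have hNe : normalizer ((zpowers x : Subgroup H) : Set H) = zpowers x :=
    (Subgroup.eq_of_le_of_card_ge hxN (by rw [Nat.card_zpowers, hx]; exact hN)).symm
  -- the Sylow subgroup
  have hPp : IsPGroup p (zpowers x) := IsPGroup.of_card (n := 1) (by rw [Nat.card_zpowers, hx, pow_one])
  have hidx : ¬ p ∣ (zpowers x).index := by
    intro h
    apply hp2
    have h1 := (zpowers x).card_mul_index
    rw [Nat.card_zpowers, hx] at h1
    rw [← h1, pow_two]
    exact Nat.mul_dvd_mul_left _ h
  let P : Sylow p H := hPp.toSylow hidx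
  have hP : (P : Subgroup H) = zpowers x := rfl
  have hPc : normalizer ((P : Subgroup H) : Set H) ≤ centralizer ((P : Subgroup H) : Set H) := by
    rw [hP, hNe]
    rintro _ ⟨i, rfl⟩
    rintro _ ⟨j, rfl⟩
    change x ^ j * x ^ i = x ^ i * x ^ j
    rw [← zpow_add, ← zpow_add, add_comm]
  have hcompl := MonoidHom.ker_transferSylow_isComplement' P hPc
  set M := (MonoidHom.transferSylow P hPc).ker with hM
  have hMn : M.Normal := MonoidHom.normal_ker _
  have hMi : M.index = p := by rw [hcompl.symm.index_eq_card]; exact (Nat.card_zpowers x).trans hx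
  have hpM : ¬ p ∣ Nat.card M := MonoidHom.not_dvd_card_ker_transferSylow P hPc
  -- the Sylow subgroup is contained in `M`
  have hSM : (S : Subgroup H) ≤ M := by
    intro a ha
    have h1 : a ^ p ∈ M := by
      have h2 := M.pow_index_mem a
      rwa [hMi] at h2
    obtain ⟨k, hk⟩ := (IsPGroup.iff_orderOf).1 S.isPGroup' ⟨a, ha⟩
    have hk' : orderOf a = s ^ k := by rw [← hk]; exact Subgroup.orderOf_coe (⟨a, ha⟩ : S)
    have hcop : Nat.Coprime p (orderOf a) := by
      rw [hk']
      exact Nat.Coprime.pow_right _ ((Nat.coprime_primes hp.out hs.out).2 hsp.symm)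
    have h3 : a ∈ zpowers (a ^ p) := by
      have h4 : zpowers (a ^ p) = zpowers a := by
        apply Subgroup.eq_of_le_of_card_ge
        · rw [zpowers_le]; exact pow_mem (mem_zpowers a) p
        · rw [Nat.card_zpowers, Nat.card_zpowers, Nat.Coprime.orderOf_pow hcop.symm]
      rw [h4]; exact mem_zpowers a
    exact (zpowers_le.2 h1) h3
  -- an element of order `p` normalises it
  have hF : normalizer ((S : Subgroup H) : Set H) ⊔ M = ⊤ := Sylow.normalizer_sup_eq_top' S hSM
  have hd : p ∣ Nat.card (normalizer ((S : Subgroup H) : Set H)) := by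
    have h1 : M.relIndex (normalizer ((S : Subgroup H) : Set H) ⊔ M) = M.relIndex (normalizer ((S : Subgroup H) : Set H)) :=
      relIndex_sup_right _ _
    rw [hF, relIndex_top_right, hMi] at h1
    rw [h1]
    exact relIndex_dvd_card _ _
  obtain ⟨y, hy⟩ := exists_prime_orderOf_dvd_card' p hd
  have hy' : orderOf (y : H) = p := by rw [← hy]; exact Subgroup.orderOf_coe y
  refine card_fix_mod hy' (S : Subgroup H) (fun a ha => (mem_normalizer_iff.1 y.2 a).1 ha) fun a ha hay => ?_
  -- the centraliser of `y`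
  have hPy : IsPGroup p (zpowers (y : H)) := IsPGroup.of_card (n := 1) (by rw [Nat.card_zpowers, hy', pow_one])
  have hidy : ¬ p ∣ (zpowers (y : H)).index := by
    intro h
    apply hp2
    have h1 := (zpowers (y : H)).card_mul_index
    rw [Nat.card_zpowers, hy'] at h1
    rw [← h1, pow_two]
    exact Nat.mul_dvd_mul_left _ h
  obtain ⟨g, hg⟩ := exists_smul_eq H (hPy.toSylow hidy) P
  have hg' : (zpowers (y : H)).map (MulAut.conj g).toMonoidHom = zpowers x := by
    have h1 := congrArg (fun Q : Sylow p H => (Q : Subgroup H)) hg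
    exact h1
  have h5 : g * a * g⁻¹ ∈ zpowers x := by
    rw [← hNe, ← hg']
    rw [mem_normalizer_iff]
    intro b
    have h6 : ∀ b ∈ (zpowers (y : H)).map (MulAut.conj g).toMonoidHom, (g * a * g⁻¹) * b = b * (g * a * g⁻¹) := by
      rintro _ ⟨_, ⟨i, rfl⟩, rfl⟩
      change g * a * g⁻¹ * (g * (y : H) ^ i * g⁻¹) = g * (y : H) ^ i * g⁻¹ * (g * a * g⁻¹)
      have h7 : (y : H) ^ i * a = a * (y : H) ^ i := ((show Commute (y : H) a from hay).zpow_left i).eq
      calc g * a * g⁻¹ * (g * (y : H) ^ i * g⁻¹) = g * (a * (y : H) ^ i) * g⁻¹ := by group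
        _ = _ := by rw [← h7]; group
    constructor
    · intro hb
      rw [h6 b hb, mul_inv_cancel_right]
      exact hb
    · intro hb
      have h8 := h6 _ hb
      have h9 : b = g * a * g⁻¹ * b * (g * a * g⁻¹)⁻¹ := by
        have : g * a * g⁻¹ * (g * a * g⁻¹ * b * (g * a * g⁻¹)⁻¹) = g * a * g⁻¹ * b := by rw [h8]; group
        exact (mul_left_cancel this).symm
      rw [h9]
      exact hb
  have h6 : g * a * g⁻¹ ∈ M := hMn.conj_mem a (hSM ha) g
  have h7 : g * a * g⁻¹ = 1 := by
    have h8 := MonoidHom.ker_transferSylow_disjoint P hPc (zpowers x) hPp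
    exact Subgroup.disjoint_def.1 h8 h6 h5
  have : a = g⁻¹ * (g * a * g⁻¹) * g := by group
  rw [this, h7]
  group

end Cfsg.Agent.H448.FprExc
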