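import Cfsg.Agent.H409.FprG2three
import Cfsg.Agent.H452.FprCyc
import Cfsg.Agent.H448.FprExc.PNil

/-!
# Fixed points of a subgroup of prime order: arithmetic
-/

set_option autoImplicit false
open Subgroup MulAction

namespace Cfsg.Agent.H448.FprExc

/-- the normaliser acts transitively on the fixed points -/
theorem fix_mul {G Ω : Type*} [Group G] [Finite G] [MulAction G Ω] [Finite Ω] [IsPretransitive G Ω]
    {r : ℕ} [hr : Fact r.Prime] (hr2 : ¬ r ^ 2 ∣ Nat.card G) {z : G} (hz : orderOf z = r)
    (h0 : Nat.card (fixedBy Ω z) ≠ 0) :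
    ∃ ω : Ω, z • ω = ω ∧ Nat.card (fixedBy Ω z) *
      Nat.card (stabilizer (normalizer ((zpowers z : Subgroup G) : Set G)) ω) =
        Nat.card (normalizer ((zpowers z : Subgroup G) : Set G)) := by
  classical
  have : Nonempty (fixedBy Ω z) := (Nat.card_ne_zero.1 h0).1
  obtain ⟨ω, hω⟩ := this
  have hω' : z • ω = ω := hω
  let N := normalizer ((zpowers z : Subgroup G) : Set G)
  have hzN : z ∈ N := le_normalizer (mem_zpowers z)
  have hpow : ∀ {a : Ω}, z • a = a → ∀ y ∈ zpowers z, y • a = a := by
    intro a ha y hy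
    have h1 : zpowers z ≤ stabilizer G a := by
      rw [zpowers_le]; exact ha
    exact h1 hy
  have horb : orbit N ω = fixedBy Ω z := by
    ext a
    constructor
    · rintro ⟨⟨n, hn⟩, rfl⟩
      change z • n • ω = n • ω
      rw [← inv_smul_eq_iff, ← mul_smul, ← mul_smul]
      apply hpow hω'
      have h1 := (mem_normalizer_iff.1 (inv_mem hn) z).1 (mem_zpowers z)
      rwa [inv_inv] at h1
    · intro ha
      have ha' : z • a = a := ha
      obtain ⟨g, hg⟩ := exists_smul_eq G ω a
      -- `⟨z⟩` and `g ⟨z⟩ g⁻¹` are Sylow subgroups of the stabiliser of `a`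
      have hcardst : ¬ r ^ 2 ∣ Nat.card (stabilizer G a) := fun h => hr2 (h.trans (card_subgroup_dvd_card _))
      let z1 : stabilizer G a := ⟨z, ha'⟩
      let z2 : stabilizer G a := ⟨g * z * g⁻¹, by
        change (g * z * g⁻¹) • a = a
        rw [mul_smul, mul_smul, ← hg, inv_smul_smul, hω']⟩
      have ho1 : orderOf z1 = r := by rw [← orderOf_coe z1]; exact hz
      have ho2 : orderOf z2 = r := by
        rw [← orderOf_coe z2]
        change orderOf (g * z * g⁻¹) = r
        rw [← hz]
        exact orderOf_injective (MulAut.conj g).toMonoidHom (MulAut.conj g).injective z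
      have hsyl : ∀ y : stabilizer G a, orderOf y = r → ∃ P : Sylow r (stabilizer G a),
          (P : Subgroup (stabilizer G a)) = zpowers y := by
        intro y hy
        have h1 : IsPGroup r (zpowers y) := IsPGroup.of_card (n := 1) (by rw [Nat.card_zpowers, hy, pow_one])
        obtain ⟨P, hP⟩ := h1.exists_le_sylow
        refine ⟨P, (eq_of_le_of_card_ge hP ?_).symm⟩
        obtain ⟨k, hk⟩ := IsPGroup.iff_card.1 P.isPGroup'
        have hk2 : k < 2 := by
          by_contra hcon
          apply hcardst
          have h2 : r ^ 2 ∣ Nat.card P := by rw [hk]; exact pow_dvd_pow r (by omega)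
          exact h2.trans (card_subgroup_dvd_card _)
        rw [Nat.card_zpowers, hy]
        calc Nat.card P = r ^ k := hk
          _ ≤ r ^ 1 := Nat.pow_le_pow_right hr.out.pos (by omega)
          _ = r := pow_one r
      obtain ⟨P1, hP1⟩ := hsyl z1 ho1
      obtain ⟨P2, hP2⟩ := hsyl z2 ho2
      obtain ⟨s, hs⟩ := exists_smul_eq (stabilizer G a) P2 P1
      have hmem : ((s : G) * g) ∈ N := by
        have h1 : (s : G) * g * z * ((s : G) * g)⁻¹ ∈ zpowers z := by
          have h2 : s * z2 * s⁻¹ ∈ (P1 : Subgroup (stabilizer G a)) := by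
            rw [← hs, Sylow.smul_def]
            exact ⟨z2, by rw [hP2]; exact mem_zpowers z2, rfl⟩
          rw [hP1] at h2
          obtain ⟨k, hk⟩ := h2
          refine ⟨k, ?_⟩
          have h3 := congrArg (fun y : stabilizer G a => (y : G)) hk
          simp only [coe_zpow, coe_mul, coe_inv] at h3
          change z ^ k = _
          rw [show z ^ k = (z1 : G) ^ k from rfl, h3]
          change (s : G) * (g * z * g⁻¹) * (s : G)⁻¹ = _
          group
        rw [show N = normalizer ((zpowers z : Subgroup G) : Set G) from rfl, mem_normalizer_iff_map_conj_eq]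
        apply eq_of_le_of_card_ge
        · rw [map_le_iff_le_comap, zpowers_le]
          exact h1
        · rw [card_map_of_injective (MulAut.conj _).injective]
      refine ⟨⟨(s : G) * g, hmem⟩, ?_⟩
      change ((s : G) * g) • ω = a
      rw [mul_smul, hg]
      exact s.2
  have h1 : Nat.card (fixedBy Ω z) = (stabilizer N ω).index := by
    rw [index_stabilizer, horb, Nat.card_coe_set_eq]
  refine ⟨ω, hω', ?_⟩
  rw [h1, mul_comm]
  exact (stabilizer N ω).card_mul_index

/-- **The conditions on the number of fixed points.** -/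
theorem small_crit {G : Type*} [Group G] [Finite G] {p : ℕ} [hp : Fact p.Prime] (hp2 : ¬ p ^ 2 ∣ Nat.card G) {x : G}
    (hx : orderOf x = p) (H : Subgroup G) :
    Nat.card (fixedBy (G ⧸ H) x) = 0 ∨
      (p * Nat.card (fixedBy (G ⧸ H) x) ∣ Nat.card (normalizer ((zpowers x : Subgroup G) : Set G)) ∧
        H.index ≡ Nat.card (fixedBy (G ⧸ H) x) [MOD p] ∧
        (p * Nat.card (fixedBy (G ⧸ H) x) = Nat.card (normalizer ((zpowers x : Subgroup G) : Set G)) →
          ∀ s a : ℕ, s.Prime → s ≠ p → s ^ a ∣ Nat.card H → ¬ s ^ (a + 1) ∣ Nat.card H → s ^ a ≡ 1 [MOD p])) := by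
  classical
  by_cases h0 : Nat.card (fixedBy (G ⧸ H) x) = 0
  · exact Or.inl h0
  right
  refine ⟨Cfsg.Agent.H409.fix_dvd hp2 hx h0, Cfsg.Agent.H452.FprCyc.fix_modEq hx H, ?_⟩
  intro hN s a hs hsp h1 h2
  obtain ⟨ω, hω, hmul⟩ := fix_mul hp2 hx h0
  have hst : Nat.card (stabilizer (normalizer ((zpowers x : Subgroup G) : Set G)) ω) = p := by
    rw [← hN, mul_comm] at hmul
    exact Nat.eq_of_mul_eq_mul_right (Nat.pos_of_ne_zero h0) hmul
  -- the order of the stabiliser
  have hcard : Nat.card (stabilizer G ω) = Nat.card H := by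
    have h3 := (stabilizer G ω).card_mul_index
    rw [index_stabilizer_of_transitive] at h3
    have h4 := H.card_mul_index
    have h5 : H.index = Nat.card (G ⧸ H) := rfl
    rw [h5] at h4
    exact Nat.eq_of_mul_eq_mul_right Nat.card_pos (h3.trans h4.symm)
  set L := stabilizer G ω with hL
  let x' : L := ⟨x, hω⟩
  have hx' : orderOf x' = p := by rw [← hx]; exact (Subgroup.orderOf_coe x').symm
  have hNL : Nat.card (normalizer ((zpowers x' : Subgroup L) : Set L)) ≤ p := by
    rw [← hst]
    refine Nat.card_le_card_of_injective (fun y => (⟨⟨(y : L), ?_⟩, ?_⟩ :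
      stabilizer (normalizer ((zpowers x : Subgroup G) : Set G)) ω)) ?_
    · rw [mem_normalizer_iff_map_conj_eq]
      apply eq_of_le_of_card_ge
      · rw [map_le_iff_le_comap, zpowers_le]
        have h3 := (mem_normalizer_iff.1 y.2 x').1 (mem_zpowers x')
        obtain ⟨k, hk⟩ := h3
        exact ⟨k, congrArg (fun z : L => (z : G)) hk⟩
      · rw [card_map_of_injective (MulAut.conj _).injective]
    · exact (y : L).2
    · intro y z hyz
      have h3 := congrArg (fun w : stabilizer (normalizer ((zpowers x : Subgroup G) : Set G)) ω =>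
        ((w : normalizer ((zpowers x : Subgroup G) : Set G)) : G)) hyz
      exact Subtype.ext (Subtype.ext h3)
  have : Fact s.Prime := ⟨hs⟩
  obtain ⟨S⟩ : Nonempty (Sylow s L) := inferInstance
  have h3 := sylow_mod hsp (fun h => hp2 (h.trans (card_subgroup_dvd_card L))) hx' hNL S
  have h4 : Nat.card S = s ^ a := by
    obtain ⟨b, hb⟩ := IsPGroup.iff_card.1 S.isPGroup'
    have h5 := S.card_eq_multiplicity
    rw [hb] at h5
    have h6 : s ^ b ∣ Nat.card L := hb ▸ card_subgroup_dvd_card _
    have h7 : ¬ s ^ (b + 1) ∣ Nat.card L := by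
      intro h8
      have h9 := (S : Subgroup L).card_mul_index
      rw [hb] at h9
      rw [← h9, pow_succ] at h8
      exact S.not_dvd_index (Nat.dvd_of_mul_dvd_mul_left (pow_pos hs.pos b) h8)
    rw [hcard] at h6 h7
    have h8 : b = a := by
      rcases lt_trichotomy b a with h | h | h
      · exact absurd ((pow_dvd_pow s h).trans h1) h7
      · exact h
      · exact absurd ((pow_dvd_pow s h).trans h6) h2
    rw [hb, h8]
  rwa [h4] at h3

end Cfsg.Agent.H448.FprExc
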