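import Cfsg.Agent.H448.FprExc.RowCyc
import Cfsg.Agent.H448.FprExc.FixArith
import Cfsg.Agent.H129.DataD4C
import Cfsg.Agent.H129.DataD4C2
import Cfsg.Agent.H934.HeisTwD4
import Cfsg.Agent.S1067
import Cfsg.Agent.S1071

/-!
# Fixed point ratios: `³D₄(q)`, `q` of order 12
-/

set_option autoImplicit false
open Subgroup MulAction

namespace Cfsg.Agent.H448.FprExc

open Cfsg.Lie Cfsg.Agent.H409 Cfsg.Agent.H129 Cfsg.Agent.Nodes.RGDChev Cfsg.Agent.H378.ExcAdj
  Cfsg.Agent.ChevalleyStructure.CoxeterGeom Cfsg.Agent.ChevalleyStructure.CoxeterGeomTypes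
  Cfsg.Agent.Tits.Roots Cfsg.Agent.Tits.Core Cfsg.Agent.Nodes.Reps

universe u

section Det

variable {l : ℕ} {M : CoxeterMatrix (Fin l)} {W : Type*} [Group W] (cs : CoxeterSystem M W)
  {A : Fin l → Fin l → ℤ} (h : IsCartan M A)

/-- `w - 1` factors through the Cartan matrix -/
theorem exists_factor (w : W) : ∃ B : Module.End ℤ (Fin l → ℤ),
    rep cs h w - 1 = B * Matrix.toLin' (Matrix.of A) := by
  have hs : ∀ i : Fin l, ∃ B : Module.End ℤ (Fin l → ℤ),
      rep cs h (cs.simple i) - 1 = B * Matrix.toLin' (Matrix.of A) := by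
    intro i
    refine ⟨-(LinearMap.single ℤ (fun _ : Fin l => ℤ) i ∘ₗ LinearMap.proj i), ?_⟩
    rw [rep_simple]
    refine LinearMap.ext fun v => ?_
    rw [LinearMap.sub_apply, Module.End.mul_apply, Matrix.toLin'_apply]
    change (v - Pi.single i (pairing A i v)) - v = -(Pi.single i ((Matrix.of A).mulVec v i))
    have h1 : (Matrix.of A).mulVec v i = pairing A i v := rfl
    rw [h1]
    abel
  induction w using cs.simple_induction with
  | simple i => exact hs i
  | one => exact ⟨0, by rw [map_one, sub_self, zero_mul]⟩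
  | mul a b ha hb =>
    obtain ⟨Ba, ha⟩ := ha
    obtain ⟨Bb, hb⟩ := hb
    refine ⟨rep cs h a * Bb + Ba, ?_⟩
    rw [add_mul, mul_assoc, ← hb, ← ha, map_mul, mul_sub, mul_one]
    abel

theorem det_dvd (w : W) : (Matrix.of A).det ∣ LinearMap.det (rep cs h w - 1) := by
  obtain ⟨B, hB⟩ := exists_factor cs h w
  rw [hB, map_mul, LinearMap.det_toLin']
  exact dvd_mul_left _ _

end Det

theorem det_D4 : (Matrix.of (cartanOf chevD4 4)).det = 4 := by decide +kernel

theorem not_four {n : ℕ} (hn : n ∈ [5, 8, 10, 12]) : ¬ (4 : ℤ) ∣ (Polynomial.cyclotomic n ℤ).eval 1 := by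
  have h5 : (Polynomial.cyclotomic 5 ℤ).eval 1 = 5 := by
    have : Fact (Nat.Prime 5) := ⟨by norm_num⟩
    exact_mod_cast Polynomial.eval_one_cyclotomic_prime (R := ℤ) (p := 5)
  have h10 : (Polynomial.cyclotomic 10 ℤ).eval 1 = 1 := by
    have h := Polynomial.cyclotomic_expand_eq_cyclotomic_mul Nat.prime_two (show ¬ 2 ∣ 5 by norm_num) ℤ
    have h' := congrArg (Polynomial.eval 1) h
    rw [Polynomial.expand_eval, Polynomial.eval_mul, one_pow, show 5 * 2 = 10 from rfl, h5] at h'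
    omega
  simp only [List.mem_cons, List.not_mem_nil, or_false] at hn
  rcases hn with rfl | rfl | rfl | rfl
  · rw [h5]; decide
  · rw [eval_cyc8]; norm_num
  · rw [h10]; decide
  · rw [eval_cyc12]; norm_num

section D

variable {K : Type u} [Field K] [Fintype K] {q : ℕ}

/-- the index of the centraliser in the normaliser -/
theorem nc_3D4' (hq : IsPrimePow q) (hK : Fintype.card K = q ^ 3) {x : ↥(twistedD4 K q)} {r : ℕ} [hr : Fact r.Prime]
    (hx : orderOf x = r) (h : od q r = 12) :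
    ∃ n, n ∈ [1, 2, 3, 4, 6] ∧ Nat.card (normalizer ((zpowers x : Subgroup ↥(twistedD4 K q)) : Set ↥(twistedD4 K q))) =
      Nat.card (centralizer ({x} : Set ↥(twistedD4 K q))) * n := by
  obtain ⟨n, hn, h1, -, h2, h3⟩ := nc_3D4 hq hK hx h
  refine ⟨n, mem_of_totient_three hn ?_, h1⟩
  by_contra h4
  have h5 : n.totient = 4 := by omega
  obtain ⟨w, hw⟩ := h3 h5
  have h6 := Cfsg.Agent.H378.LatCyc.det_sub hn h5 hw 1
  rw [one_smul] at h6
  have h7 := det_dvd coxeterD4.toCoxeterSystem Cfsg.Agent.Nodes.RGDTwD4.hp.isCartan w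
  rw [det_D4, ← Int.natAbs_dvd_natAbs, h6, Int.natAbs_dvd_natAbs] at h7
  exact not_four (mem_of_totient_four hn h5) h7

theorem torusD (hq : IsPrimePow q) (hK : Fintype.card K = q ^ 3) {N : ℕ}
    (hN : (N : ℤ) = 1 - (q : ℤ) ^ 2 + (q : ℤ) ^ 4) {r : ℕ} (hr : r.Prime)
    (h7 : 7 < r) (hrN : r ∣ N) :
    ∃ T : Subgroup ↥(twistedD4 K q), IsCyclic ↥T ∧ Nat.card ↥T = N ∧
      ∀ y ∈ T, orderOf y = r → Subgroup.centralizer {y} ≤ T := by
  have hrq : (r : ℤ) ∣ 1 - (q : ℤ) ^ 2 + (q : ℤ) ^ 4 := by rw [← hN]; exact Int.natCast_dvd_natCast.2 hrN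
  have hrW := H129.TwD4Cyc.not_dvd_W hr (by omega) (by omega)
  have hG : ∀ s, ¬ (r : ℤ) ∣ H129.TorusTw.Gq H129.DataD4C.B (q : ℤ) (H129.DataD4C.R s) := by
    intro s hs
    exact not_dvd_int (m := 1) (by norm_num) (by omega) (H129.DataD4C.dvd_of_G hrq s hs)
  have hqN : q.Coprime N := H129.UntwData.coprime_of_eq (a := -(q : ℤ) + (q : ℤ) ^ 3) (by rw [hN]; ring)
  obtain ⟨T, h1, h3, h5, -⟩ := H129.TwT.tri_T hq hK H129.DataD4C.hA H129.DataD4C.chainOK H129.DataD4C.hd_pi
    H129.DataD4C.cycOK H129.DataD4C.rootOK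
    H129.DataD4C.chain2OK H129.DataD4C.hd2_eq (N := N)
    (by rw [H129.DataD4C.fN_eq, hN]) hqN
  exact ⟨T, h1, h3, h5 r hr hrW hG⟩

/-- the case of a prime torus -/
theorem row_prime {G : Type*} [Group G] [Finite G] {p : ℕ} [hp : Fact p.Prime] (hp2 : ¬ p ^ 2 ∣ Nat.card G) {x : G}
    (hx : orderOf x = p) {L : List ℕ} (hnc : ∃ n, n ∈ L ∧
      Nat.card (normalizer ((zpowers x : Subgroup G) : Set G)) = p * n) {i0 : ℕ}
    (hi : ∀ H : Subgroup G, H ≠ ⊤ → i0 ≤ H.index) (E : ℕ → ℕ → Prop)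
    (hE : ∀ H : Subgroup G, H ≠ ⊤ → ∀ n ∈ L, ∀ f, f ∣ n → E H.index f →
      (f = n → ∀ s a : ℕ, s.Prime → s ≠ p → s ^ a ∣ Nat.card H → ¬ s ^ (a + 1) ∣ Nat.card H → s ^ a ≡ 1 [MOD p]) → False)
    (hnum : ∀ n ∈ L, ∀ f, f ∣ n → f ≠ 0 → ∀ m, i0 ≤ m → m < (p + 1) * f → m % p = f % p → m ∣ Nat.card G → E m f) :
    FprRow (p + 1) 1 p G := by
  intro H hH
  refine ⟨x, ⟨1, by rw [hx, pow_one]⟩, ?_⟩
  rw [one_mul]
  obtain ⟨n, hnL, hn⟩ := hnc
  rcases small_crit hp2 hx H with h0 | ⟨h1, h2, h3⟩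
  · rw [h0, mul_zero]; exact Nat.zero_le _
  set f := Nat.card (fixedBy (G ⧸ H) x) with hf
  by_cases hf0 : f = 0
  · rw [hf0, mul_zero]; exact Nat.zero_le _
  change (p + 1) * f ≤ H.index
  by_contra hcon
  push Not at hcon
  rw [hn] at h1 h3
  have h4 : f ∣ n := Nat.dvd_of_mul_dvd_mul_left hp.out.pos h1
  exact hE H hH n hnL f h4 (hnum n hnL f h4 hf0 H.index (hi H hH) hcon h2 H.index_dvd_card) fun h5 => h3 (by rw [h5])

theorem not_six : ¬ IsPrimePow 6 := by
  rintro ⟨p, k, hp, hk, h⟩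
  have hp := hp.nat_prime
  have h2 : 2 ∣ p ^ k := by rw [h]; norm_num
  have h3 : 3 ∣ p ^ k := by rw [h]; norm_num
  have h4 := (Nat.prime_dvd_prime_iff_eq Nat.prime_two hp).1 (Nat.prime_two.dvd_of_dvd_pow h2)
  have h5 := (Nat.prime_dvd_prime_iff_eq Nat.prime_three hp).1 (Nat.prime_three.dvd_of_dvd_pow h3)
  omega

/-- **The index of a proper subgroup of `³D₄(q)`.** -/
theorem index_3D4 (hq : IsPrimePow q) (hK : Fintype.card K = q ^ 3) (H : Subgroup ↥(twistedD4 K q)) (hH : H ≠ ⊤) :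
    q ^ 5 ≤ H.index := by
  have h5 := Cfsg.Agent.H934.HeisTwD4.bound_3D4 hq hK (Cfsg.Agent.S1071.result hq hK).1 H hH
  rw [show q ^ 10 = (q ^ 5) ^ 2 by ring] at h5
  exact (Nat.pow_le_pow_iff_left (by norm_num)).1 h5

/-- the numerical check -/
def chk (L : List ℕ) (p i0 C : ℕ) (ex : ℕ → ℕ → ℕ → Bool) : Bool :=
  L.all fun n => n != 0 && (List.range (n + 1)).all fun f => f == 0 || n % f != 0 ||
    (List.range ((p + 1) * f)).all fun m => decide (m < i0) || m % p != f % p || C % m != 0 || ex n f m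

theorem of_chk {L : List ℕ} {p i0 C : ℕ} {ex : ℕ → ℕ → ℕ → Bool} (h : chk L p i0 C ex = true) :
    ∀ n ∈ L, 0 < n ∧ ∀ f, f ∣ n → f ≠ 0 → ∀ m, i0 ≤ m → m < (p + 1) * f → m % p = f % p → m ∣ C → ex n f m = true := by
  intro n hn
  have h1 := List.all_eq_true.1 h n hn
  rw [Bool.and_eq_true] at h1
  have hn0 : n ≠ 0 := by simpa using h1.1
  refine ⟨Nat.pos_of_ne_zero hn0, fun f hf hf0 m h3 h4 h5 h6 => ?_⟩
  have h2 := List.all_eq_true.1 h1.2 f (List.mem_range.2 (Nat.lt_succ_of_le (Nat.le_of_dvd (Nat.pos_of_ne_zero hn0) hf)))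
  rw [Bool.or_eq_true, Bool.or_eq_true] at h2
  rcases h2 with (h2 | h2) | h2
  · exact absurd (by simpa using h2) hf0
  · rw [Nat.mod_eq_zero_of_dvd hf] at h2
    simp at h2
  · have h7 := List.all_eq_true.1 h2 m (List.mem_range.2 h4)
    rw [Bool.or_eq_true, Bool.or_eq_true, Bool.or_eq_true] at h7
    rcases h7 with ((h7 | h7) | h7) | h7
    · rw [decide_eq_true_eq] at h7
      omega
    · rw [h5] at h7
      simp at h7
    · rw [Nat.mod_eq_zero_of_dvd h6] at h7
      simp at h7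
    · exact h7

/-- the small fields -/
theorem row_3D4_small (hq : IsPrimePow q) (hK : Fintype.card K = q ^ 3) {p C : ℕ} [hp : Fact p.Prime]
    (ho : orderOf (q : ZMod p) = 12) (hpN : (p : ℤ) = 1 - (q : ℤ) ^ 2 + (q : ℤ) ^ 4)
    (hC : q ^ 12 * (q ^ 2 - 1) * (q ^ 6 - 1) * (q ^ 8 + q ^ 4 + 1) = C) (hp2 : ¬ p ^ 2 ∣ C)
    (hnum : chk [1, 2, 3, 4, 6] p (q ^ 5) C (fun _ f m => q == 2 && m == 32 && f == 6) = true) :
    FprRow (p + 1) 1 p ↥(twistedD4 K q) := by
  have hcard : Nat.card ↥(twistedD4 K q) = C := by rw [← hC]; exact Cfsg.Agent.S1067.result hq hK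
  have hp12 := le_of_ord hp.out (by norm_num) ho
  obtain ⟨T, hT, h1, h3⟩ := torusD hq hK hpN hp.out (by omega) (dvd_refl p)
  obtain ⟨y, hy⟩ := exists_prime_orderOf_dvd_card' (G := ↥T) p (by rw [h1])
  have hy' : orderOf (y : ↥(twistedD4 K q)) = p := by rw [← hy]; exact Subgroup.orderOf_coe y
  have hCy : Nat.card (centralizer ({(y : ↥(twistedD4 K q))} : Set ↥(twistedD4 K q))) = p := by
    apply le_antisymm
    · rw [← h1]
      exact Nat.card_le_card_of_injective _ (Subgroup.inclusion_injective (h3 _ y.2 hy'))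
    · have h4 : zpowers (y : ↥(twistedD4 K q)) ≤ centralizer ({(y : ↥(twistedD4 K q))} : Set ↥(twistedD4 K q)) := by
        rw [zpowers_le]
        exact mem_centralizer_singleton_iff.2 rfl
      have h5 := Nat.card_le_card_of_injective _ (Subgroup.inclusion_injective h4)
      rwa [Nat.card_zpowers, hy'] at h5
  refine row_prime (L := [1, 2, 3, 4, 6]) (i0 := q ^ 5) (by rw [hcard]; exact hp2) hy' ?_
    (fun H hH => index_3D4 hq hK H hH) (fun m f => q = 2 ∧ m = 32 ∧ f = 6) ?_ ?_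
  · obtain ⟨n, hn, h4⟩ := nc_3D4' hq hK hy' ho
    exact ⟨n, hn, by rw [h4, hCy]⟩
  · rintro H hH n hn f hfn ⟨rfl, hm, rfl⟩ hs
    have h6 : 6 = n := by
      simp only [List.mem_cons, List.not_mem_nil, or_false] at hn
      rcases hn with rfl | rfl | rfl | rfl | rfl
      · exact absurd (Nat.le_of_dvd (by norm_num) hfn) (by norm_num)
      · exact absurd (Nat.le_of_dvd (by norm_num) hfn) (by norm_num)
      · exact absurd (Nat.le_of_dvd (by norm_num) hfn) (by norm_num)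
      · exact absurd (Nat.le_of_dvd (by norm_num) hfn) (by norm_num)
      · rfl
    have hp13 : p = 13 := by
      have : (p : ℤ) = 13 := by rw [hpN]; norm_num
      exact_mod_cast this
    have h7 : Nat.card H * 32 = 2 ^ 12 * (2 ^ 2 - 1) * (2 ^ 6 - 1) * (2 ^ 8 + 2 ^ 4 + 1) := by
      rw [hC, ← hcard, ← H.card_mul_index, hm]
    have h8 : Nat.card H = 6604416 := by
      norm_num at h7
      omega
    have h9 := hs h6 7 2 (by norm_num) (by omega) (by rw [h8]; norm_num) (by rw [h8]; norm_num)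
    rw [hp13] at h9
    exact absurd h9 (by decide)
  · intro n hn f hf hf0 m h4 h5 h6 h7
    rw [hcard] at h7
    have h8 := (of_chk hnum n hn).2 f hf hf0 m h4 h5 h6 h7
    rw [Bool.and_eq_true, Bool.and_eq_true] at h8
    exact ⟨by simpa using h8.1.1, by simpa using h8.1.2, by simpa using h8.2⟩

/-- **`³D₄(q)`, `q` of order 12.** -/
theorem row_3D4 (hq : IsPrimePow q) (hK : Fintype.card K = q ^ 3) {p : ℕ} [hp : Fact p.Prime]
    (ho : orderOf (q : ZMod p) = 12) : FprRow (p + 1) 1 p ↥(twistedD4 K q) := by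
  have hq2 : 2 ≤ q := hq.two_le
  have hp12 := le_of_ord hp.out (by norm_num) ho
  obtain ⟨N, hN, hN0, hN1⟩ := exists_N12 hq2
  have hpN := dvd_12 ho hN
  by_cases h7 : 7 ≤ q
  · obtain ⟨T, hT, h1, h3⟩ := torusD hq hK hN hp.out (by omega) hpN
    refine row_of_nc hT (d := 1) (h1 ▸ dvd_refl _) (by rw [h1, one_mul]) hpN (fun h => hp.out.one_lt.ne' (Nat.dvd_one.1 h))
      hN0 h3 (B := 6) (fun x hx => ?_) (fun H hH => index_3D4 hq hK H hH) ?_
    · obtain ⟨n, hn, h4⟩ := nc_3D4' hq hK hx ho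
      rw [h4]
      refine Nat.mul_le_mul_left _ ?_
      simp only [List.mem_cons, List.not_mem_nil, or_false] at hn
      omega
    · have h8 : (p + 1) * 6 ≤ p * 7 := by omega
      calc (p + 1) * (N * 6) = ((p + 1) * 6) * N := by ring
        _ ≤ (p * 7) * q ^ 4 := Nat.mul_le_mul h8 (by
            have : 1 ≤ q ^ 2 := Nat.one_le_pow _ _ (by omega)
            omega)
        _ = p * (7 * q ^ 4) := by ring
        _ ≤ p * (q * q ^ 4) := Nat.mul_le_mul_left _ (Nat.mul_le_mul_right _ h7)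
        _ = p * q ^ 5 := by ring
  · have hc : q = 2 ∨ q = 3 ∨ q = 4 ∨ q = 5 := by
      have : q ≠ 6 := by rintro rfl; exact not_six hq
      omega
    have hpe : ∀ P : ℕ, P.Prime → N = P → p = P := fun P hP h => by
      rw [h] at hpN
      exact (Nat.prime_dvd_prime_iff_eq hp.out hP).1 hpN
    rcases hc with rfl | rfl | rfl | rfl
    · obtain rfl := hpe 13 (by norm_num) (by omega)
      exact row_3D4_small hq hK ho (by norm_num) (C := 211341312) (by norm_num) (by norm_num)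
        (by decide +kernel)
    · obtain rfl := hpe 73 (by norm_num) (by omega)
      exact row_3D4_small hq hK ho (by norm_num) (C := 20560831566912) (by norm_num) (by norm_num)
        (by decide +kernel)
    · obtain rfl := hpe 241 (by norm_num) (by omega)
      exact row_3D4_small hq hK ho (by norm_num) (C := 67802350642790400) (by norm_num) (by norm_num)
        (by decide +kernel)
    · obtain rfl := hpe 601 (by norm_num) (by omega)
      exact row_3D4_small hq hK ho (by norm_num) (C := 35817806390625000000) (by norm_num) (by norm_num)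
        (by decide +kernel)

end D

end Cfsg.Agent.H448.FprExc
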