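import Cfsg.Agent.H448.FprExc.TorB
import Cfsg.Agent.H129.DataE7s
import Cfsg.Agent.H129.DataE7n
import Cfsg.Agent.H129.DataE6e
import Cfsg.Agent.H129.DataTE6e

/-!
# Fixed point ratios: `E₇` (7, 9), `E₆` (8), `²E₆` (8)
-/

set_option autoImplicit false
set_option linter.unusedSectionVars false
open Subgroup MulAction

namespace Cfsg.Agent.H448.FprExc

open Cfsg.Lie Cfsg.Agent.H409 Cfsg.Agent.H129 Cfsg.Agent.Nodes.RGDChev

universe u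

section Num

variable {q p : ℕ} [hp : Fact p.Prime]

theorem dvd_7 {N : ℕ} (h : orderOf (q : ZMod p) = 7) (hN : (N : ℤ) = 1 + (q : ℤ) + (q : ℤ) ^ 2 + (q : ℤ) ^ 3 +
    (q : ℤ) ^ 4 + (q : ℤ) ^ 5 + (q : ℤ) ^ 6) : p ∣ N := by
  have h1 : (q : ZMod p) ^ 7 = 1 := by rw [← h]; exact pow_orderOf_eq_one _
  have h2 : (q : ZMod p) - 1 ≠ 0 := by
    intro h3
    rw [sub_eq_zero.1 h3, orderOf_one] at h
    omega
  rw [← CharP.cast_eq_zero_iff (ZMod p) p]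
  have h3 := congrArg (fun z : ℤ => (z : ZMod p)) hN
  push_cast at h3
  have h4 : ((q : ZMod p) - 1) * (N : ZMod p) = 0 := by
    rw [h3]
    linear_combination h1
  exact (mul_eq_zero.1 h4).resolve_left h2

theorem dvd_9' {N : ℕ} (h : orderOf (q : ZMod p) = 9) (hN : (N : ℤ) = 1 + (q : ℤ) ^ 3 + (q : ℤ) ^ 6) : p ∣ N := by
  have h1 : (q : ZMod p) ^ 9 = 1 := by rw [← h]; exact pow_orderOf_eq_one _
  have h2 : (q : ZMod p) ^ 3 - 1 ≠ 0 := by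
    intro h3
    have := orderOf_dvd_of_pow_eq_one (sub_eq_zero.1 h3)
    rw [h] at this
    exact absurd (Nat.le_of_dvd (by norm_num) this) (by norm_num)
  rw [← CharP.cast_eq_zero_iff (ZMod p) p]
  have h3 := congrArg (fun z : ℤ => (z : ZMod p)) hN
  push_cast at h3
  have h4 : ((q : ZMod p) ^ 3 - 1) * (N : ZMod p) = 0 := by
    rw [h3]
    linear_combination h1
  exact (mul_eq_zero.1 h4).resolve_left h2

theorem dvd_8 {N : ℕ} (h : orderOf (q : ZMod p) = 8) (hN : (N : ℤ) = 1 + (q : ℤ) ^ 4) : p ∣ N := by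
  have h1 := half_eq (n := 4) (by norm_num) h
  rw [← CharP.cast_eq_zero_iff (ZMod p) p]
  have h3 := congrArg (fun z : ℤ => (z : ZMod p)) hN
  push_cast at h3
  rw [h3]
  linear_combination h1

end Num

section E7

open Cfsg.Agent.H129.TorusTw

variable {F : Type u} [Field F] [Fintype F]

theorem torus7 {q N M : ℕ} (hF : Fintype.card F = q) (hN : (N : ℤ) = 1 + (q : ℤ) + (q : ℤ) ^ 2 + (q : ℤ) ^ 3 +
    (q : ℤ) ^ 4 + (q : ℤ) ^ 5 + (q : ℤ) ^ 6) (hM : (M : ℤ) = -1 + (q : ℤ) ^ 7) {r : ℕ} (hr : r.Prime)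
    (h7 : 8 < r) (hrN : r ∣ N) :
    ∃ T : Subgroup ↥(chevE7.group F), IsCyclic ↥T ∧ Nat.card ↥T ∣ M ∧ M ∣ 2 * Nat.card ↥T ∧
      ∀ y ∈ T, orderOf y = r → Subgroup.centralizer {y} ≤ T := by
  have := finite_W typ7 CoxeterMatrix.E₇.toCoxeterSystem
  have hrq : (r : ℤ) ∣ 1 + (q : ℤ) + (q : ℤ) ^ 2 + (q : ℤ) ^ 3 + (q : ℤ) ^ 4 + (q : ℤ) ^ 5 + (q : ℤ) ^ 6 := by
    rw [← hN]; exact Int.natCast_dvd_natCast.2 hrN
  have hG : ∀ s, ¬ (r : ℤ) ∣ Gq DataE7s.B (q : ℤ) (DataE7s.R s) := by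
    intro s hs
    rcases DataE7s.dvd_of_G hrq s hs with h1 | h1 | h1
    · exact not_dvd_int (m := 1) (by norm_num) (by omega) h1
    · exact not_dvd_int (m := 2) (by norm_num) (by omega) h1
    · exact not_dvd_int (m := 7) (by norm_num) (by omega) h1
  have hqN : q.Coprime M := by
    rw [← Nat.isCoprime_iff_coprime]
    exact ⟨(q : ℤ) ^ 6, -1, by rw [hM]; ring⟩
  obtain ⟨T, h1, h3, h4, h5, -⟩ := UntwT.untw_T typ7 CoxeterMatrix.E₇.toCoxeterSystem (by norm_num) hF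
    TorusChar.invC_E7 (by norm_num) DataE7s.hA DataE7s.chainOK DataE7s.cycOK DataE7s.rootOK (N := M)
    (by rw [DataE7s.fN_eq, hM]) hqN (d := 2) (Or.inl rfl)
  exact ⟨T, h1, h3, h4, h5 r hr (notW7 hr h7) hG⟩

theorem torus9s {q N M : ℕ} (hF : Fintype.card F = q) (hN : (N : ℤ) = 1 + (q : ℤ) ^ 3 + (q : ℤ) ^ 6)
    (hM : (M : ℤ) = -1 + (q : ℤ) - (q : ℤ) ^ 3 + (q : ℤ) ^ 4 - (q : ℤ) ^ 6 + (q : ℤ) ^ 7) {r : ℕ} (hr : r.Prime)
    (h7 : 8 < r) (hrN : r ∣ N) :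
    ∃ T : Subgroup ↥(chevE7.group F), IsCyclic ↥T ∧ Nat.card ↥T ∣ M ∧ M ∣ 2 * Nat.card ↥T ∧
      ∀ y ∈ T, orderOf y = r → Subgroup.centralizer {y} ≤ T := by
  have := finite_W typ7 CoxeterMatrix.E₇.toCoxeterSystem
  have hrq : (r : ℤ) ∣ 1 + (q : ℤ) ^ 3 + (q : ℤ) ^ 6 := by
    rw [← hN]; exact Int.natCast_dvd_natCast.2 hrN
  have hG : ∀ s, ¬ (r : ℤ) ∣ Gq DataE7n.B (q : ℤ) (DataE7n.R s) := by
    intro s hs
    rcases DataE7n.dvd_of_G hrq s hs with h1 | h1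
    · exact not_dvd_int (m := 1) (by norm_num) (by omega) h1
    · exact not_dvd_int (m := 3) (by norm_num) (by omega) h1
  have hqN : q.Coprime M := by
    rw [← Nat.isCoprime_iff_coprime]
    exact ⟨1 - (q : ℤ) ^ 2 + (q : ℤ) ^ 3 - (q : ℤ) ^ 5 + (q : ℤ) ^ 6, -1, by rw [hM]; ring⟩
  obtain ⟨T, h1, h3, h4, h5, -⟩ := UntwT.untw_T typ7 CoxeterMatrix.E₇.toCoxeterSystem (by norm_num) hF
    TorusChar.invC_E7 (by norm_num) DataE7n.hA DataE7n.chainOK DataE7n.cycOK DataE7n.rootOK (N := M)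
    (by rw [DataE7n.fN_eq, hM]) hqN (d := 2) (Or.inl rfl)
  exact ⟨T, h1, h3, h4, h5 r hr (notW7 hr h7) hG⟩

/-- **`E₇(q)`, `q` of order 7.** -/
theorem row_E7_seven {p : ℕ} [hp : Fact p.Prime] (ho : orderOf (Fintype.card F : ZMod p) = 7) :
    FprRow (p + 1) 1 p ↥(chevE7.group F) := by
  have hs := (Cfsg.Agent.S1054.result (F := F) chevE7 (by simp)).1
  obtain ⟨q, hF⟩ : ∃ q, Fintype.card F = q := ⟨_, rfl⟩
  have hq2 : 2 ≤ q := by rw [← hF]; exact Fintype.one_lt_card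
  rw [hF] at ho
  have hi : ∀ H : Subgroup ↥(chevE7.group F), H ≠ ⊤ → 2 * q ^ 17 ≤ H.index := fun H hH => by
    rw [← hF]; exact Cfsg.Agent.H934.HeisE7.two_mul_le hs H hH
  have hp8 := le_of_ord hp.out (by norm_num) ho
  have hp9 : p ≠ 8 := by rintro rfl; exact absurd hp.out (by norm_num)
  have hN : ((1 + q + q ^ 2 + q ^ 3 + q ^ 4 + q ^ 5 + q ^ 6 : ℕ) : ℤ) = 1 + (q : ℤ) + (q : ℤ) ^ 2 + (q : ℤ) ^ 3 +
    (q : ℤ) ^ 4 + (q : ℤ) ^ 5 + (q : ℤ) ^ 6 := by push_cast; ring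
  have hpN := dvd_7 ho hN
  have h1q : 1 ≤ q ^ 7 := Nat.one_le_pow _ _ (by omega)
  have hM : ((q ^ 7 - 1 : ℕ) : ℤ) = -1 + (q : ℤ) ^ 7 := by push_cast [h1q]; ring
  obtain ⟨T, -, h1, h2, h3⟩ := torus7 hF hN hM hp.out (by omega) hpN
  have h4 : 2 ^ 7 ≤ q ^ 7 := Nat.pow_le_pow_left hq2 7
  have hpM : p ∣ q ^ 7 - 1 := by
    refine hpN.trans ⟨q - 1, ?_⟩
    obtain ⟨a, rfl⟩ : ∃ a, q = a + 1 := ⟨q - 1, by omega⟩
    simp only [Nat.add_sub_cancel]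
    zify [h1q]
    ring
  refine row_of_torus h1 h2 hpM (fun h => ?_) (by omega) h3 hi ?_
  · have := Nat.le_of_dvd (by norm_num) h
    omega
  · have h5 : p ≤ q ^ 7 - 1 := Nat.le_of_dvd (by omega) hpM
    calc (p + 1) * (q ^ 7 - 1) ≤ q ^ 7 * q ^ 7 := Nat.mul_le_mul (by omega) (by omega)
      _ = q ^ 14 := by ring
      _ ≤ q ^ 17 := Nat.pow_le_pow_right (by omega) (by norm_num)
      _ ≤ 2 * q ^ 17 := by omega

/-- **`E₇(q)`, `q` of order 9.** -/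
theorem row_E7_nine {p : ℕ} [hp : Fact p.Prime] (ho : orderOf (Fintype.card F : ZMod p) = 9) :
    FprRow (p + 1) 1 p ↥(chevE7.group F) := by
  have hs := (Cfsg.Agent.S1054.result (F := F) chevE7 (by simp)).1
  obtain ⟨q, hF⟩ : ∃ q, Fintype.card F = q := ⟨_, rfl⟩
  have hq2 : 2 ≤ q := by rw [← hF]; exact Fintype.one_lt_card
  rw [hF] at ho
  have hi : ∀ H : Subgroup ↥(chevE7.group F), H ≠ ⊤ → 2 * q ^ 17 ≤ H.index := fun H hH => by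
    rw [← hF]; exact Cfsg.Agent.H934.HeisE7.two_mul_le hs H hH
  have hp8 := le_of_ord hp.out (by norm_num) ho
  have hN : ((q ^ 6 + q ^ 3 + 1 : ℕ) : ℤ) = 1 + (q : ℤ) ^ 3 + (q : ℤ) ^ 6 := by push_cast; ring
  have hpN := dvd_9' ho hN
  have hM : (((q - 1) * (q ^ 6 + q ^ 3 + 1) : ℕ) : ℤ) =
      -1 + (q : ℤ) - (q : ℤ) ^ 3 + (q : ℤ) ^ 4 - (q : ℤ) ^ 6 + (q : ℤ) ^ 7 := by
    have h1q : 1 ≤ q := by omega
    push_cast [h1q]; ring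
  obtain ⟨T, -, h1, h2, h3⟩ := torus9s hF hN hM hp.out (by omega) hpN
  have h4 : 2 ^ 3 ≤ q ^ 3 := Nat.pow_le_pow_left hq2 3
  have h6 : q ^ 6 + q ^ 3 + 1 ≤ 2 * q ^ 6 - 1 := by
    have : q ^ 6 = q ^ 3 * q ^ 3 := by ring
    have h7 : q ^ 3 + 2 ≤ q ^ 6 := by nlinarith
    omega
  refine row_of_torus h1 h2 (hpN.mul_left _) (fun h => ?_) (Nat.mul_pos (by omega) (by positivity)) h3 hi ?_
  · have := Nat.le_of_dvd (by norm_num) h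
    omega
  · have h5 : p ≤ q ^ 6 + q ^ 3 + 1 := Nat.le_of_dvd (by positivity) hpN
    calc (p + 1) * ((q - 1) * (q ^ 6 + q ^ 3 + 1)) ≤ (2 * q ^ 6) * (q * (2 * q ^ 6)) :=
          Nat.mul_le_mul (by omega) (Nat.mul_le_mul (by omega) (by omega))
      _ = 2 * (2 ^ 1 * q ^ 13) := by ring
      _ ≤ 2 * (q ^ 1 * q ^ 13) := Nat.mul_le_mul_left _ (Nat.mul_le_mul_right _ (Nat.pow_le_pow_left hq2 1))
      _ = 2 * q ^ 14 := by ring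
      _ ≤ 2 * q ^ 17 := Nat.mul_le_mul_left _ (Nat.pow_le_pow_right (by omega) (by norm_num))

end E7

/-- the numbers for the order 8 -/
theorem num_eight {q p : ℕ} (hq : 2 ≤ q) (hp : p ≤ q ^ 4 + 1) : (p + 1) * ((q ^ 2 - 1) * (q ^ 4 + 1)) ≤ q ^ 11 := by
  have h1 : 2 ^ 4 ≤ q ^ 4 := Nat.pow_le_pow_left hq 4
  have h2 : 2 ^ 2 ≤ q ^ 2 := Nat.pow_le_pow_left hq 2
  have h3 : (q ^ 2 - 1) * (q ^ 4 + 1) ≤ q ^ 6 := by
    have h4 : (q ^ 2 - 1) * (q ^ 4 + 1) + (q ^ 4 + 1) = q ^ 2 * (q ^ 4 + 1) := by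
      rw [← Nat.succ_mul]
      congr 1
      omega
    have h5 : q ^ 2 * (q ^ 4 + 1) = q ^ 6 + q ^ 2 := by ring
    have h6 : q ^ 2 ≤ q ^ 4 := Nat.pow_le_pow_right (by omega) (by norm_num)
    omega
  calc (p + 1) * ((q ^ 2 - 1) * (q ^ 4 + 1)) ≤ (2 * q ^ 4) * q ^ 6 := Nat.mul_le_mul (by omega) h3
    _ = 2 * q ^ 10 := by ring
    _ ≤ q * q ^ 10 := Nat.mul_le_mul_right _ hq
    _ = q ^ 11 := by ring

section E6

open Cfsg.Agent.H129.TorusTw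

variable {F : Type u} [Field F] [Fintype F]

theorem torus8 {q N M : ℕ} (hF : Fintype.card F = q) (hN : (N : ℤ) = 1 + (q : ℤ) ^ 4)
    (hM : (M : ℤ) = -1 + (q : ℤ) ^ 2 - (q : ℤ) ^ 4 + (q : ℤ) ^ 6) {r : ℕ} (hr : r.Prime)
    (h7 : 8 < r) (hrN : r ∣ N) :
    ∃ T : Subgroup ↥(chevE6.group F), IsCyclic ↥T ∧ Nat.card ↥T ∣ M ∧ M ∣ 3 * Nat.card ↥T ∧
      ∀ y ∈ T, orderOf y = r → Subgroup.centralizer {y} ≤ T := by
  have := finite_W typ6 CoxeterMatrix.E₆.toCoxeterSystem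
  have hrq : (r : ℤ) ∣ 1 + (q : ℤ) ^ 4 := by rw [← hN]; exact Int.natCast_dvd_natCast.2 hrN
  have hG : ∀ s, ¬ (r : ℤ) ∣ Gq DataE6e.B (q : ℤ) (DataE6e.R s) := by
    intro s hs
    rcases DataE6e.dvd_of_G hrq s hs with h1 | h1
    · exact not_dvd_int (m := 1) (by norm_num) (by omega) h1
    · exact not_dvd_int (m := 2) (by norm_num) (by omega) h1
  have hqN : q.Coprime M := by
    rw [← Nat.isCoprime_iff_coprime]
    exact ⟨(q : ℤ) - (q : ℤ) ^ 3 + (q : ℤ) ^ 5, -1, by rw [hM]; ring⟩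
  obtain ⟨T, h1, h3, h4, h5, -⟩ := UntwT.untw_T typ6 CoxeterMatrix.E₆.toCoxeterSystem (by norm_num) hF
    TorusChar.invC_E6 (by norm_num) DataE6e.hA DataE6e.chainOK DataE6e.cycOK DataE6e.rootOK (N := M)
    (by rw [DataE6e.fN_eq, hM]) hqN (d := 3) (Or.inl rfl)
  exact ⟨T, h1, h3, h4, h5 r hr (notW6 hr h7) hG⟩

/-- **`E₆(q)`, `q` of order 8.** -/
theorem row_E6_eight {p : ℕ} [hp : Fact p.Prime] (ho : orderOf (Fintype.card F : ZMod p) = 8) :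
    FprRow (p + 1) 1 p ↥(chevE6.group F) := by
  have hs := (Cfsg.Agent.S1054.result (F := F) chevE6 (by simp)).1
  obtain ⟨q, hF⟩ : ∃ q, Fintype.card F = q := ⟨_, rfl⟩
  have hq2 : 2 ≤ q := by rw [← hF]; exact Fintype.one_lt_card
  rw [hF] at ho
  have hi : ∀ H : Subgroup ↥(chevE6.group F), H ≠ ⊤ → 2 * q ^ 11 ≤ H.index := fun H hH => by
    rw [← hF]; exact Cfsg.Agent.H934.HeisE6.two_mul_le hs H hH
  have hp8 := le_of_ord hp.out (by norm_num) ho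
  have hN : ((q ^ 4 + 1 : ℕ) : ℤ) = 1 + (q : ℤ) ^ 4 := by push_cast; ring
  have hpN := dvd_8 ho hN
  have h2 : 2 ^ 2 ≤ q ^ 2 := Nat.pow_le_pow_left hq2 2
  have h2' : 1 ≤ q ^ 2 := by omega
  have hM : (((q ^ 2 - 1) * (q ^ 4 + 1) : ℕ) : ℤ) = -1 + (q : ℤ) ^ 2 - (q : ℤ) ^ 4 + (q : ℤ) ^ 6 := by
    push_cast [h2']; ring
  obtain ⟨T, -, h1, h3, h4⟩ := torus8 hF hN hM hp.out (by omega) hpN
  refine row_of_torus h1 h3 (hpN.mul_left _) (fun h => ?_) (Nat.mul_pos (by omega) (by positivity)) h4 hi ?_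
  · have := Nat.le_of_dvd (by norm_num) h
    omega
  · exact (num_eight hq2 (Nat.le_of_dvd (by positivity) hpN)).trans (by omega)

end E6

section TE6

variable {K : Type u} [Field K] [Fintype K] {q : ℕ}

theorem torusT8 (hq : IsPrimePow q) (hK : Fintype.card K = q ^ 2) {N M : ℕ} (hN : (N : ℤ) = 1 + (q : ℤ) ^ 4)
    (hM : (M : ℤ) = -1 + (q : ℤ) ^ 2 - (q : ℤ) ^ 4 + (q : ℤ) ^ 6) {r : ℕ} (hr : r.Prime) (h7 : 8 < r) (hrN : r ∣ N) :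
    ∃ T : Subgroup ↥(twistedE6 K q), IsCyclic ↥T ∧ Nat.card ↥T ∣ M ∧ M ∣ Nat.gcd 3 (q + 1) * Nat.card ↥T ∧
      ∀ y ∈ T, orderOf y = r → Subgroup.centralizer {y} ≤ T := by
  have hrq : (r : ℤ) ∣ 1 + (q : ℤ) ^ 4 := by rw [← hN]; exact Int.natCast_dvd_natCast.2 hrN
  have hG : ∀ s, ¬ (r : ℤ) ∣ H129.TorusTw.Gq H129.DataTE6e.B (q : ℤ) (H129.DataTE6e.R s) := by
    intro s hs
    rcases H129.DataTE6e.dvd_of_G hrq s hs with h1 | h1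
    · exact not_dvd_int (m := 1) (by norm_num) (by omega) h1
    · exact not_dvd_int (m := 2) (by norm_num) (by omega) h1
  have hqN : q.Coprime M := by
    rw [← Nat.isCoprime_iff_coprime]
    exact ⟨(q : ℤ) - (q : ℤ) ^ 3 + (q : ℤ) ^ 5, -1, by rw [hM]; ring⟩
  obtain ⟨T, h1, h3, h4, h5, -⟩ := H129.TwT.flip_T hq hK H129.DataTE6e.hA H129.DataTE6e.chainOK H129.DataTE6e.hd_pi
    H129.DataTE6e.cycOK H129.DataTE6e.rootOK H129.DataTE6e.chain2OK H129.DataTE6e.hd2_eq (N := M)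
    (by rw [H129.DataTE6e.fN_eq, hM]) hqN
  exact ⟨T, h1, h3, h4, h5 r hr (notW6 hr h7) hG⟩

/-- **`²E₆(q)`, `q` of order 8.** -/
theorem row_2E6_eight (hq : IsPrimePow q) (hK : Fintype.card K = q ^ 2) {p : ℕ} [hp : Fact p.Prime]
    (ho : orderOf (q : ZMod p) = 8) : FprRow (p + 1) 1 p ↥(twistedE6 K q) := by
  have hs := (Cfsg.Agent.S1070.result hq hK).1
  have hq2 : 2 ≤ q := hq.two_le
  have hi : ∀ H : Subgroup ↥(twistedE6 K q), H ≠ ⊤ → q ^ 11 ≤ H.index := fun H hH => by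
    have h5 := Cfsg.Agent.H934.HeisTwE6.bound_2E6 hq hK hs H hH
    rw [show q ^ 22 = (q ^ 11) ^ 2 by ring] at h5
    exact (Nat.pow_le_pow_iff_left (by norm_num)).1 h5
  have hp8 := le_of_ord hp.out (by norm_num) ho
  have hN : ((q ^ 4 + 1 : ℕ) : ℤ) = 1 + (q : ℤ) ^ 4 := by push_cast; ring
  have hpN := dvd_8 ho hN
  have h2 : 2 ^ 2 ≤ q ^ 2 := Nat.pow_le_pow_left hq2 2
  have h2' : 1 ≤ q ^ 2 := by omega
  have hM : (((q ^ 2 - 1) * (q ^ 4 + 1) : ℕ) : ℤ) = -1 + (q : ℤ) ^ 2 - (q : ℤ) ^ 4 + (q : ℤ) ^ 6 := by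
    push_cast [h2']; ring
  obtain ⟨T, -, h1, h3, h4⟩ := torusT8 hq hK hN hM hp.out (by omega) hpN
  refine row_of_torus h1 h3 (hpN.mul_left _) (fun h => ?_) (Nat.mul_pos (by omega) (by positivity)) h4 hi
    (num_eight hq2 (Nat.le_of_dvd (by positivity) hpN))
  have := Nat.le_of_dvd (by norm_num) (h.trans (Nat.gcd_dvd_left 3 (q + 1)))
  omega

end TE6

end Cfsg.Agent.H448.FprExc
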