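import Cfsg.Agent.H448.FprExc.RowD4
import Cfsg.Agent.H129.DataG2h
import Cfsg.Agent.H129.DataG2
import Cfsg.Agent.H62.PPChev
import Cfsg.Agent.H172.S3G2
import Cfsg.Agent.H599.IdxG2
import Cfsg.Agent.H452.FprDeg
import Cfsg.Agent.S2338
import Cfsg.Agent.S1055
import Cfsg.Agent.S1059

/-!
# Fixed point ratios: `G₂(q)`, `q` of order 3 or 6
-/

set_option autoImplicit false
set_option linter.unusedSectionVars false
open Subgroup MulAction

namespace Cfsg.Agent.H448.FprExc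

open Cfsg.Lie Cfsg.Agent.H409 Cfsg.Agent.H129 Cfsg.Agent.Nodes.RGDChev Cfsg.Agent.H378.ExcAdj
  Cfsg.Agent.H129.TorusTw

universe u

section Tor

variable {F : Type u} [Field F] [Fintype F]

theorem typ2 : IsType chevG2 2 CoxeterMatrix.G₂ := by simp

theorem notW2 {r : ℕ} (hr : r.Prime) (h8 : 7 ≤ r) : ¬ r ∣ Nat.card CoxeterMatrix.G₂.Group := fun h => by
  have := finite_W typ2 CoxeterMatrix.G₂.toCoxeterSystem
  have := Cfsg.Agent.H378.LatCodim.le_of_dvd_card CoxeterMatrix.G₂.toCoxeterSystem typ2.isCartan hr h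
  omega

theorem torus6 {q N : ℕ} (hF : Fintype.card F = q) (hN : (N : ℤ) = 1 - (q : ℤ) + (q : ℤ) ^ 2) {r : ℕ} (hr : r.Prime)
    (h7 : 7 ≤ r) (hrN : r ∣ N) :
    ∃ T : Subgroup ↥(chevG2.group F), IsCyclic ↥T ∧ Nat.card ↥T = N ∧
      ∀ y ∈ T, orderOf y = r → Subgroup.centralizer {y} ≤ T := by
  have := finite_W typ2 CoxeterMatrix.G₂.toCoxeterSystem
  have hrq : (r : ℤ) ∣ 1 - (q : ℤ) + (q : ℤ) ^ 2 := by rw [← hN]; exact Int.natCast_dvd_natCast.2 hrN
  have hG : ∀ s, ¬ (r : ℤ) ∣ Gq DataG2h.B (q : ℤ) (DataG2h.R s) := by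
    intro s hs
    rcases DataG2h.dvd_of_G hrq s hs with h1 | h1
    · exact not_dvd_int (m := 1) (by norm_num) (by omega) h1
    · exact not_dvd_int (m := 3) (by norm_num) (by omega) h1
  have hqN : q.Coprime N := UntwData.coprime_of_eq (a := (q : ℤ) - 1) (by rw [hN]; ring)
  obtain ⟨T, h1, h3, h4, h5, -⟩ := UntwT.untw_T typ2 CoxeterMatrix.G₂.toCoxeterSystem (by norm_num) hF
    TorusChar.invC_G2 one_ne_zero DataG2h.hA DataG2h.chainOK DataG2h.cycOK DataG2h.rootOK (N := N)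
    (by rw [DataG2h.fN_eq, hN]) hqN (d := 1) (Or.inl rfl)
  rw [one_mul] at h4
  exact ⟨T, h1, Nat.dvd_antisymm h3 h4, h5 r hr (notW2 hr h7) hG⟩

theorem torus3 {q N : ℕ} (hF : Fintype.card F = q) (hN : (N : ℤ) = 1 + (q : ℤ) + (q : ℤ) ^ 2) {r : ℕ} (hr : r.Prime)
    (h7 : 7 ≤ r) (hrN : r ∣ N) :
    ∃ T : Subgroup ↥(chevG2.group F), IsCyclic ↥T ∧ Nat.card ↥T = N ∧
      ∀ y ∈ T, orderOf y = r → Subgroup.centralizer {y} ≤ T := by
  have := finite_W typ2 CoxeterMatrix.G₂.toCoxeterSystem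
  have hrq : (r : ℤ) ∣ 1 + (q : ℤ) + (q : ℤ) ^ 2 := by rw [← hN]; exact Int.natCast_dvd_natCast.2 hrN
  have hG : ∀ s, ¬ (r : ℤ) ∣ Gq DataG2.B (q : ℤ) (DataG2.R s) := by
    intro s hs
    rcases DataG2.dvd_of_G hrq s hs with h1 | h1
    · exact not_dvd_int (m := 1) (by norm_num) (by omega) h1
    · exact not_dvd_int (m := 3) (by norm_num) (by omega) h1
  have hqN : q.Coprime N := UntwData.coprime_of_eq (a := (q : ℤ) + 1) (by rw [hN]; ring)
  obtain ⟨T, h1, h3, h4, h5, -⟩ := UntwT.untw_T typ2 CoxeterMatrix.G₂.toCoxeterSystem (by norm_num) hF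
    TorusChar.invC_G2 one_ne_zero DataG2.hA DataG2.chainOK DataG2.cycOK DataG2.rootOK (N := N)
    (by rw [DataG2.fN_eq, hN]) hqN (d := 1) (Or.inl rfl)
  rw [one_mul] at h4
  exact ⟨T, h1, Nat.dvd_antisymm h3 h4, h5 r hr (notW2 hr h7) hG⟩

end Tor

/-- the data of a torus of `G₂(q)` -/
structure TorG2 (G : Type*) [Group G] (p N : ℕ) : Prop where
  ex : ∃ T : Subgroup G, IsCyclic ↥T ∧ Nat.card ↥T = N ∧ ∀ y ∈ T, orderOf y = p → Subgroup.centralizer {y} ≤ T
  nc : ∀ x : G, orderOf x = p → ∃ n, n ∈ [1, 2, 3, 4, 6] ∧ n ∣ p - 1 ∧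
    Nat.card (normalizer ((zpowers x : Subgroup G) : Set G)) = Nat.card (centralizer ({x} : Set G)) * n
  dvd : p ∣ N
  seven : 7 ≤ p

section Dat

variable {F : Type u} [Field F] [Fintype F] {p : ℕ} [hp : Fact p.Prime]

theorem seven_le (ho : orderOf (Fintype.card F : ZMod p) = 3 ∨ orderOf (Fintype.card F : ZMod p) = 6) : 7 ≤ p := by
  have h3 : 3 ∣ p - 1 := by
    rcases ho with h | h
    · exact Cfsg.Agent.H378.ExcNear.mod_of_od hp.out h (by norm_num)
    · exact (by norm_num : 3 ∣ 6).trans (Cfsg.Agent.H378.ExcNear.mod_of_od hp.out h (by norm_num))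
  have h2 := hp.out.two_le
  by_contra h7
  push Not at h7
  have h4 : p ≠ 4 := by rintro rfl; exact absurd hp.out (by norm_num)
  obtain ⟨c, hc⟩ := h3
  omega

theorem nc_G2 {m : ℕ} (hm : m = 3 ∨ m = 6) (ho : orderOf (Fintype.card F : ZMod p) = m) (x : ↥(chevG2.group F))
    (hx : orderOf x = p) : ∃ n, n ∈ [1, 2, 3, 4, 6] ∧ n ∣ p - 1 ∧
    Nat.card (normalizer ((zpowers x : Subgroup ↥(chevG2.group F)) : Set ↥(chevG2.group F))) =
      Nat.card (centralizer ({x} : Set ↥(chevG2.group F))) * n := by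
  have ho' : od (Nat.card F) p = m := by rw [Nat.card_eq_fintype_card]; exact ho
  obtain ⟨n, hn, h1, h2, h3, -⟩ := nc_untw typ2 hx ho' (by rcases hm with rfl | rfl <;> decide) (by omega)
  exact ⟨n, mem_of_totient_three hn (by omega), h2, h1⟩

theorem dvd_of_eval {m N : ℕ} (ho : orderOf (Fintype.card F : ZMod p) = m) (hm : 0 < m)
    (hN : ((Polynomial.cyclotomic m ℤ).eval ((Fintype.card F : ℕ) : ℤ)) = (N : ℤ)) : p ∣ N := by
  have h1 := Cfsg.Agent.H378.RegFin.cyclotomic_dvd (q := Fintype.card F) hp.out ho hm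
  rw [hN] at h1
  exact Int.natCast_dvd_natCast.1 h1

/-- the torus for the order 3 -/
theorem tor3 (ho : orderOf (Fintype.card F : ZMod p) = 3) {N : ℕ}
    (hN : (N : ℤ) = 1 + ((Fintype.card F : ℕ) : ℤ) + ((Fintype.card F : ℕ) : ℤ) ^ 2) : TorG2 ↥(chevG2.group F) p N := by
  have h7 := seven_le (F := F) (Or.inl ho)
  have hd : p ∣ N := dvd_of_eval ho (by norm_num) (by rw [eval_cyc3, hN]; ring)
  exact ⟨torus3 rfl hN hp.out h7 hd, fun x hx => nc_G2 (Or.inl rfl) ho x hx, hd, h7⟩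

/-- the torus for the order 6 -/
theorem tor6 (ho : orderOf (Fintype.card F : ZMod p) = 6) {N : ℕ}
    (hN : (N : ℤ) = 1 - ((Fintype.card F : ℕ) : ℤ) + ((Fintype.card F : ℕ) : ℤ) ^ 2) : TorG2 ↥(chevG2.group F) p N := by
  have h7 := seven_le (F := F) (Or.inr ho)
  have hd : p ∣ N := dvd_of_eval ho (by norm_num) (by rw [eval_cyc6, hN]; ring)
  exact ⟨torus6 rfl hN hp.out h7 hd, fun x hx => nc_G2 (Or.inr rfl) ho x hx, hd, h7⟩

end Dat

/-- the large fields -/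
theorem TorG2.row_large {G : Type*} [Group G] [Finite G] {p N : ℕ} [hp : Fact p.Prime] (h : TorG2 G p N) (hN : 0 < N)
    {i : ℕ} (hi : ∀ H : Subgroup G, H ≠ ⊤ → i ≤ H.index) (hle : 48 * N ≤ 7 * i) : FprRow (p + 1) 1 p G := by
  obtain ⟨T, hT, h1, h3⟩ := h.ex
  refine row_of_nc hT (d := 1) (h1 ▸ dvd_refl _) (by rw [h1, one_mul]) h.dvd
    (fun h => hp.out.one_lt.ne' (Nat.dvd_one.1 h)) hN h3 (B := 6) (fun x hx => ?_) hi ?_
  · obtain ⟨n, hn, -, h4⟩ := h.nc x hx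
    rw [h4]
    refine Nat.mul_le_mul_left _ ?_
    simp only [List.mem_cons, List.not_mem_nil, or_false] at hn
    omega
  · have h7 := h.seven
    have h8 : 7 * (p + 1) ≤ 8 * p := by omega
    have h9 : 7 * ((p + 1) * (N * 6)) ≤ 7 * (p * i) := by
      calc 7 * ((p + 1) * (N * 6)) = (7 * (p + 1)) * (6 * N) := by ring
        _ ≤ (8 * p) * (6 * N) := Nat.mul_le_mul_right _ h8
        _ = p * (48 * N) := by ring
        _ ≤ p * (7 * i) := Nat.mul_le_mul_left _ hle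
        _ = 7 * (p * i) := by ring
    exact Nat.le_of_mul_le_mul_left h9 (by norm_num)

/-- the small fields -/
theorem TorG2.row_small {G : Type*} [Group G] [Finite G] {p N c : ℕ} [hp : Fact p.Prime] (h : TorG2 G p N)
    (hN : N = p * c) {L : List ℕ} (hL : ∀ n ∈ [1, 2, 3, 4, 6], n ∣ p - 1 → c * n ∈ L)
    (hp2 : ¬ p ^ 2 ∣ Nat.card G) {i0 : ℕ}
    (hi : ∀ H : Subgroup G, H ≠ ⊤ → i0 ≤ H.index) (E : ℕ → ℕ → Prop)
    (hE : ∀ H : Subgroup G, H ≠ ⊤ → ∀ n ∈ L, ∀ f, f ∣ n → E H.index f →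
      (f = n → ∀ s a : ℕ, s.Prime → s ≠ p → s ^ a ∣ Nat.card H → ¬ s ^ (a + 1) ∣ Nat.card H → s ^ a ≡ 1 [MOD p]) → False)
    (hnum : ∀ n ∈ L, ∀ f, f ∣ n → f ≠ 0 → ∀ m, i0 ≤ m → m < (p + 1) * f → m % p = f % p → m ∣ Nat.card G → E m f) :
    FprRow (p + 1) 1 p G := by
  obtain ⟨T, hT, h1, h3⟩ := h.ex
  obtain ⟨y, hy⟩ := exists_prime_orderOf_dvd_card' (G := ↥T) p (by rw [h1]; exact h.dvd)
  have hy' : orderOf (y : G) = p := by rw [← hy]; exact Subgroup.orderOf_coe y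
  have hCy : Nat.card (centralizer ({(y : G)} : Set G)) = N := by
    have h4 : centralizer ({(y : G)} : Set G) = T := by
      apply le_antisymm (h3 _ y.2 hy')
      intro t ht
      have hc := hT.isMulCommutative.is_comm.comm (⟨t, ht⟩ : T) y
      exact mem_centralizer_singleton_iff.2 (congrArg Subtype.val hc)
    rw [h4, h1]
  obtain ⟨n, hn, hnp, hN'⟩ := h.nc _ hy'
  exact row_prime hp2 hy' ⟨c * n, hL n hn hnp, by rw [hN', hCy, hN, mul_assoc]⟩ hi E hE hnum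

section Idx

variable {F : Type u} [Field F] [Fintype F]

/-- subgroups of index prime to the characteristic -/
theorem own_idx (r : ℕ) [CharP F r] {H : Subgroup ↥(chevG2.group F)} (hH : H ≠ ⊤) (hi : ¬ r ∣ H.index) :
    Fintype.card F ^ 5 ≤ H.index := by
  have hrp : r.Prime := CharP.char_is_prime F r
  have hfr : Fact r.Prime := ⟨hrp⟩
  have hW := finite_W typ2 CoxeterMatrix.G₂.toCoxeterSystem
  have R := Cfsg.Agent.Nodes.RGDChev.rgd (K := F) typ2 CoxeterMatrix.G₂.toCoxeterSystem r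
  obtain ⟨i, h3⟩ := Cfsg.Agent.H62.PPIdx.exists_card_VJ_le R
    (Cfsg.Agent.Nodes.RGDChev.G1_eq_top typ2 CoxeterMatrix.G₂.toCoxeterSystem (K := F)) hH hi
  exact (Cfsg.Agent.H62.PPChev.pow_le_card_VJ typ2 CoxeterMatrix.G₂.toCoxeterSystem r i
    ((by decide +kernel : ∀ i : Fin 2, 5 ≤ Cfsg.Agent.H62.PPChev.num chevG2 i) i)).trans h3

end Idx

/-- a prime divisor of the order is at most the index -/
theorem prime_le_index {G : Type*} [Group G] [Finite G] [IsSimpleGroup G] {s : ℕ} (hs : s.Prime) (hd : s ∣ Nat.card G)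
    {H : Subgroup G} (hH : H ≠ ⊤) : s ≤ H.index := by
  classical
  have hinj : Function.Injective (MulAction.toPermHom G (G ⧸ H)) := by
    rw [← MonoidHom.ker_eq_bot_iff, ← Subgroup.normalCore_eq_ker]
    rcases (inferInstance : H.normalCore.Normal).eq_bot_or_eq_top with h | h
    · exact h
    · exact absurd (top_le_iff.1 (h ▸ H.normalCore_le)) hH
  have h1 := Subgroup.card_dvd_of_injective _ hinj
  rw [Nat.card_perm] at h1
  exact (hs.dvd_factorial).1 (hd.trans h1)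

section Rows

variable {F : Type u} [Field F] [Fintype F]

theorem simple_G2 (h3 : 3 ≤ Fintype.card F) : IsSimpleGroup ↥(chevG2.group F) ∧ ∃ x y : ↥(chevG2.group F), x * y ≠ y * x := by
  have hF : ∃ a : F, a ≠ 0 ∧ a ≠ 1 := by
    classical
    by_contra hcon
    push Not at hcon
    have h1 : (Finset.univ : Finset F) ⊆ {0, 1} := by
      intro a _
      by_cases h : a = 0
      · simp [h]
      · simp [hcon a h]
    have h2 := Finset.card_le_card h1
    have h4 := Finset.card_le_two (a := (0 : F)) (b := 1)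
    rw [Finset.card_univ] at h2
    omega
  obtain ⟨h1, h2⟩ := Cfsg.Agent.S1055.result hF
  refine ⟨h1, ?_⟩
  by_contra hcon
  push Not at hcon
  exact h2 ⟨⟨hcon⟩⟩

/-- the index for `q` prime to 6 -/
theorem idx_six (h2 : (2 : F) ≠ 0) (h3 : (3 : F) ≠ 0) (hs : IsSimpleGroup ↥(chevG2.group F))
    (H : Subgroup ↥(chevG2.group F)) (hH : H ≠ ⊤) : (Fintype.card F ^ 4 + 1) / 2 ≤ H.index := by
  have h1 := Cfsg.Agent.H172.S3G2.pow_eight_le h2 h3 hs H hH
  have h4 : (Fintype.card F ^ 4) ^ 2 ≤ (2 * H.index) ^ 2 := by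
    calc (Fintype.card F ^ 4) ^ 2 = Fintype.card F ^ 8 := by ring
      _ ≤ 4 * H.index ^ 2 := h1
      _ = _ := by ring
  have h5 := (Nat.pow_le_pow_iff_left (by norm_num)).1 h4
  omega

/-- the index for `q` a power of 3 -/
theorem idx_three (h3 : Fintype.card F % 3 = 0) (h4 : 3 < Fintype.card F) (H : Subgroup ↥(chevG2.group F)) (hH : H ≠ ⊤) :
    Fintype.card F ^ 4 + Fintype.card F ^ 2 + 1 ≤ H.index := by
  obtain ⟨hs, hna⟩ := simple_G2 (F := F) (by omega)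
  obtain ⟨k, ρ, h5, h6, h7⟩ := Cfsg.Agent.H452.FprDeg.exists_irr hna hH
  exact ((Cfsg.Agent.S2338.result k ρ h5 h6).2.2 h3 h4).trans h7

/-- the two tori -/
theorem exists_tor {p : ℕ} [hp : Fact p.Prime]
    (ho : orderOf (Fintype.card F : ZMod p) = 3 ∨ orderOf (Fintype.card F : ZMod p) = 6) :
    ∃ N, TorG2 ↥(chevG2.group F) p N ∧ 0 < N ∧ N ≤ Fintype.card F ^ 2 + Fintype.card F + 1 := by
  have hq : 1 ≤ Fintype.card F := Fintype.card_pos
  generalize hq' : Fintype.card F = q at *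
  have hqq : q ≤ q ^ 2 := Nat.le_self_pow (by norm_num) q
  rcases ho with ho | ho
  · refine ⟨q ^ 2 + q + 1, ?_, by positivity, le_rfl⟩
    rw [← hq'] at ho ⊢
    exact tor3 ho (by push_cast; ring)
  · refine ⟨q ^ 2 - q + 1, ?_, by positivity, by omega⟩
    have hqq' : Fintype.card F ≤ Fintype.card F ^ 2 := Nat.le_self_pow (by norm_num) _
    rw [← hq'] at ho ⊢
    exact tor6 ho (by push_cast [hqq']; ring)

end Rows

end Cfsg.Agent.H448.FprExc
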