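import Mathlib

/-!
# The normaliser of a subgroup of prime order
-/

set_option autoImplicit false
set_option linter.unusedSectionVars false
open Subgroup MulAction

namespace Cfsg.Agent.H448.FprExc

variable {G : Type*} [Group G] [Finite G] {p : ℕ}

theorem conj_pow_iter {y x : G} {j : ℕ} (h : y * x * y⁻¹ = x ^ j) (n : ℕ) : y ^ n * x * (y ^ n)⁻¹ = x ^ j ^ n := by
  induction n with
  | zero => simp
  | succ n ih =>
    calc y ^ (n + 1) * x * (y ^ (n + 1))⁻¹ = y * (y ^ n * x * (y ^ n)⁻¹) * y⁻¹ := by rw [pow_succ']; group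
      _ = y * x ^ j ^ n * y⁻¹ := by rw [ih]
      _ = (y * x * y⁻¹) ^ j ^ n := by rw [conj_pow]
      _ = x ^ j ^ (n + 1) := by rw [h, ← pow_mul, pow_succ']

/-- **`N/C` is cyclic, generated by a power map.** -/
theorem exists_gen [hp : Fact p.Prime] {x : G} (hx : orderOf x = p) :
    ∃ (y : G) (j : ℕ), y * x * y⁻¹ = x ^ j ∧ Nat.card (normalizer ((zpowers x : Subgroup G) : Set G)) =
      Nat.card (centralizer ({x} : Set G)) * orderOf (j : ZMod p) := by
  classical
  set N := normalizer ((zpowers x : Subgroup G) : Set G) with hN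
  let f : N →* MulAut (zpowers x) := (zpowers x).normalizerMonoidHom
  have hZ : Nat.card (zpowers x) = p := by rw [Nat.card_zpowers, hx]
  have hcyc : IsCyclic (MulAut (zpowers x)) := by
    have h1 : IsCyclic (ZMod (Nat.card (zpowers x)))ˣ := by rw [hZ]; infer_instance
    exact isCyclic_of_injective (IsCyclic.mulAutMulEquiv (zpowers x)).toMonoidHom
      (IsCyclic.mulAutMulEquiv (zpowers x)).injective
  have hrc : IsCyclic f.range := inferInstance
  obtain ⟨⟨_, y, rfl⟩, hy⟩ := hrc.exists_generator
  have hcard : orderOf (f y) = Nat.card f.range := by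
    rw [← Nat.card_zpowers]
    have h1 : zpowers (f y) = f.range := by
      apply le_antisymm
      · rw [zpowers_le]; exact ⟨y, rfl⟩
      · intro a ha
        obtain ⟨k, hk⟩ := hy ⟨a, ha⟩
        exact ⟨k, congrArg Subtype.val hk⟩
    rw [h1]
  have hmem : (y : G) * x * (y : G)⁻¹ ∈ zpowers x := (mem_normalizer_iff.1 y.2 x).1 (mem_zpowers x)
  obtain ⟨j, hj⟩ : ∃ j : ℕ, x ^ j = (y : G) * x * (y : G)⁻¹ := by
    have h1 : (y : G) * x * (y : G)⁻¹ ∈ Submonoid.powers x := mem_powers_iff_mem_zpowers.2 hmem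
    exact h1
  refine ⟨y, j, hj.symm, ?_⟩
  have hord : orderOf (j : ZMod p) = orderOf (f y) := by
    rw [orderOf_eq_orderOf_iff]
    intro n
    have h1 : (f y) ^ n = 1 ↔ x ^ j ^ n = x := by
      rw [← map_pow, ← conj_pow_iter hj.symm n]
      constructor
      · intro h
        have h2 := congrArg (fun a : MulAut (zpowers x) => ((a ⟨x, mem_zpowers x⟩ : zpowers x) : G)) h
        exact h2
      · intro h
        refine MulEquiv.ext fun a => ?_
        obtain ⟨a, k, rfl⟩ := a
        apply Subtype.ext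
        change ((y ^ n : N) : G) * (x ^ k) * ((y ^ n : N) : G)⁻¹ = x ^ k
        rw [← conj_zpow]
        congr 1
    rw [h1]
    have h2 : x ^ j ^ n = x ↔ x ^ j ^ n = x ^ 1 := by rw [pow_one]
    rw [h2, pow_inj_mod, hx]
    have h3 : ((j : ZMod p) ^ n = 1) ↔ ((j ^ n : ℕ) : ZMod p) = ((1 : ℕ) : ZMod p) := by push_cast; rfl
    rw [h3, ZMod.natCast_eq_natCast_iff]
    rfl
  have hker : Nat.card f.ker = Nat.card (centralizer ({x} : Set G)) := by
    have h1 : f.ker = (centralizer ((zpowers x : Subgroup G) : Set G)).subgroupOf N := normalizerMonoidHom_ker _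
    have h2 : centralizer ((zpowers x : Subgroup G) : Set G) = centralizer ({x} : Set G) := by
      apply le_antisymm
      · exact centralizer_le (by simp [mem_zpowers])
      · intro g hg
        rw [mem_centralizer_singleton_iff] at hg
        rintro _ ⟨k, rfl⟩
        exact ((show Commute g x from hg).zpow_right k).eq.symm
    rw [h1, h2]
    refine Nat.card_congr (Subgroup.subgroupOfEquivOfLe ?_).toEquiv
    rw [← h2]
    exact Subgroup.centralizer_le_normalizer _
  rw [hord, hcard, ← hker]
  have h5 := f.ker.card_mul_index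
  rw [Subgroup.index_ker] at h5
  exact h5.symm

end Cfsg.Agent.H448.FprExc
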