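import Mathlib
import Cfsg.Agent.H448.FprCent.SteTor
import Cfsg.Agent.H448.FprExc.NCGrp

/-!
# The normaliser of a subgroup of prime order without elements of order `p` in the centraliser

`nc_core` : if `x` of prime order `ℓ` commutes with no element of order `p` then a relation `y x y⁻¹ = x ^ j` gives
an element `w` of the Weyl group with eigenvalue `j` on the character lattice modulo `ℓ`.
`nc_totient` : the index of the centraliser in the normaliser is `m` with `φ(m) ≤ l`.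
-/

set_option autoImplicit false
set_option linter.unusedSectionVars false

namespace Cfsg.Agent.H448.FprExc

open CoxeterSystem Subgroup Cfsg Cfsg.Lie Cfsg.Lie.ChevalleyDatum
open Cfsg.Agent.ChevalleyStructure Cfsg.Agent.ChevalleyStructure.Elts Cfsg.Agent.ChevalleyStructure.CoxeterGeom
  Cfsg.Agent.ChevalleyStructure.CoxeterGeomTypes Cfsg.Agent.ChevalleyStructure.NPerm
open Cfsg.Agent.Tits.Roots Cfsg.Agent.Tits.Core Cfsg.Agent.Nodes.Reps Cfsg.Agent.Nodes.BNOf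
  Cfsg.Agent.Nodes.RGDChev Cfsg.Agent.Nodes.Bruhat
open Cfsg.Agent.KFacts.RgdField Cfsg.Agent.KFacts.RgdChevCoord Cfsg.Agent.BpExc Cfsg.Agent.BpExc.TorCent
  Cfsg.Agent.BpExc.TorChev Cfsg.Agent.BpExc.Tow Cfsg.Agent.BpExc.TowChev Cfsg.Agent.BpExc.Fr Cfsg.Agent.BpExc.Pair
  Cfsg.Agent.BpExc.LangFr
open Cfsg.Agent.H129.TorusChar
open Cfsg.Agent.H378.TorDual Cfsg.Agent.H378.TorChar Cfsg.Agent.H378.TorFin Cfsg.Agent.H378.LatRoot
  Cfsg.Agent.H378.LatCyc Cfsg.Agent.H378.Regular Cfsg.Agent.H378.RegTw Cfsg.Agent.H378.ExcAdj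

universe u v

variable {D : ChevalleyDatum} {l : ℕ} {M : CoxeterMatrix (Fin l)} (hp : IsType D l M) {k : Type u} [Field k]
  {W : Type*} [Group W] (cs : CoxeterSystem M W) [IsAlgClosed k] (hk : LocFin k) {p e : ℕ} [Fact p.Prime] [CharP k p]
  {σ : MulAut ↥(D.group k)} {g : (Fin l → ℤ) ≃+ (Fin l → ℤ)}
  {G0 : Type*} [Group G0] [Finite G0] {e0 : G0 →* ↥(D.group k)}

include hk in
/-- a power of a regular torus element conjugate to it -/
theorem exists_weyl [Finite W] (p : ℕ) [Fact p.Prime] [CharP k p] {t c : ↥(D.group k)} (ht : t ∈ TT D k)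
    (hreg : ∀ a, IsRoot cs hp.isCartan a → ch hp a t ≠ 1) {j : ℕ} (h : c * t * c⁻¹ = t ^ j) :
    ∃ w : W, tchar hp ⟨t, ht⟩ ∈ KerOf k (rep cs hp.isCartan w - (j : ℤ) • (1 : Module.End ℤ (Fin l → ℤ))) := by
  obtain ⟨m', hm', w, g, hg, hgs, hc'⟩ := exists_form' hp cs hk p (s := t ^ j) (t := t) (c := c⁻¹)
    ((TT D k).pow_mem ht j) ht (by rw [← h]; group)
  rw [MM_eq_bot hp cs hreg, Subgroup.mem_bot] at hm'
  rw [hm', one_mul] at hc'
  refine ⟨w, fun x => ?_⟩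
  have h1 := cX_rp hp cs hk p hg ((TT D k).pow_mem ht j) x
  have h2 : g * t ^ j * g⁻¹ = t := by rw [hgs]; group
  rw [h2] at h1
  have h3 : tchar hp ⟨t, ht⟩ (Multiplicative.ofAdd (rep cs hp.isCartan w x)) =
      tchar hp ⟨t, ht⟩ (Multiplicative.ofAdd x) ^ j := by
    refine Units.ext ?_
    rw [tchar_eq_cX, h1, ← tchar_eq_cX hp ((TT D k).pow_mem ht j), Units.val_pow_eq_pow_val]
    have h4 : (⟨t ^ j, (TT D k).pow_mem ht j⟩ : ↥(TT D k)) = ⟨t, ht⟩ ^ j := rfl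
    rw [h4, map_pow, MonoidHom.pow_apply, Units.val_pow_eq_pow_val]
  show tchar hp ⟨t, ht⟩ (Multiplicative.ofAdd ((rep cs hp.isCartan w - (j : ℤ) • (1 : Module.End ℤ (Fin l → ℤ))) x)) = 1
  rw [LinearMap.sub_apply, ofAdd_sub, map_div, h3, LinearMap.smul_apply, Module.End.one_apply, ofAdd_zsmul, map_zpow,
    zpow_natCast, div_self']

include hp cs hk in
/-- **The core.** -/
theorem nc_core' [Finite W] (hka : BpExc.TorAll.HAlg p k) (he : 0 < e) (hσ : IsFrob p e σ)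
    (F : Fr cs hp.isCartan (TT D k) (XX D l k) σ g) (he0 : Function.Injective e0) (hfix : ∀ a, σ (e0 a) = e0 a)
    {x : G0} {ℓ : ℕ} (hℓ : ℓ.Prime) (hℓp : ℓ ≠ p) (hx : orderOf x = ℓ) :
    (∃ u : ↥(D.group k), σ u = u ∧ u * e0 x = e0 x * u ∧ orderOf u = p) ∨ ∀ (y : G0) (j : ℕ), y * x * y⁻¹ = x ^ j →
      ∃ (w : W) (χ : Ch l k), χ ≠ 1 ∧ χ ^ ℓ = 1 ∧
        χ ∈ KerOf k (rep cs hp.isCartan w - (j : ℤ) • (1 : Module.End ℤ (Fin l → ℤ))) := by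
  have hxℓ : x ^ ℓ = 1 := by rw [← hx]; exact pow_orderOf_eq_one x
  have hx1 : x ≠ 1 := by
    rintro rfl
    rw [orderOf_one] at hx
    exact hℓ.one_lt.ne hx
  rcases H448.FprCent.inv_or_regular hp cs hk hka he hσ F (hfix x) hℓ hℓp (by rw [← map_pow, hxℓ, map_one]) with
    ⟨u, hu, hc, ho⟩ | ⟨t, c, ht, hct, hreg⟩
  · exact Or.inl ⟨u, hu, hc, ho⟩
  · right
    intro y j hy
    have htℓ : t ^ ℓ = 1 := by
      rw [← hct]
      have h1 := conj_pow (a := c⁻¹) (b := e0 x) (i := ℓ)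
      rw [inv_inv] at h1
      rw [h1, ← map_pow, hxℓ, map_one]; group
    have ht1 : t ≠ 1 := by
      intro h1
      apply hx1
      apply he0
      have : e0 x = c * t * c⁻¹ := by rw [← hct]; group
      rw [this, h1, map_one]; group
    obtain ⟨w, hw⟩ := exists_weyl hp cs hk p (c := c⁻¹ * e0 y * c) ht hreg (j := j) (by
      have h1 : c⁻¹ * e0 y * c * t * (c⁻¹ * e0 y * c)⁻¹ = c⁻¹ * e0 (y * x * y⁻¹) * c := by
        rw [← hct, map_mul, map_mul, map_inv]; group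
      have h2 := conj_pow (a := c⁻¹) (b := e0 x) (i := j)
      rw [inv_inv] at h2
      rw [h1, hy, map_pow, ← hct, h2])
    refine ⟨w, _, ?_, tchar_pow_eq_one hp ht htℓ, hw⟩
    intro h1
    have h2 := tchar_injective hp (h1.trans (map_one (tchar hp)).symm)
    exact ht1 (congrArg Subtype.val h2)

include hp cs hk in
/-- **The core**, with an element of the finite group. -/
theorem nc_core [Finite W] (hka : BpExc.TorAll.HAlg p k) (he : 0 < e) (hσ : IsFrob p e σ)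
    (F : Fr cs hp.isCartan (TT D k) (XX D l k) σ g) (he0 : Function.Injective e0) (hfix : ∀ a, σ (e0 a) = e0 a) {d : ℕ}
    (hd : ∀ y, σ y = y → y ^ d ∈ e0.range) (hpd : ¬ p ∣ d) {x : G0} {ℓ : ℕ} (hℓ : ℓ.Prime) (hℓp : ℓ ≠ p)
    (hx : orderOf x = ℓ) :
    (∃ v : G0, orderOf v = p ∧ Commute v x) ∨ ∀ (y : G0) (j : ℕ), y * x * y⁻¹ = x ^ j →
      ∃ (w : W) (χ : Ch l k), χ ≠ 1 ∧ χ ^ ℓ = 1 ∧
        χ ∈ KerOf k (rep cs hp.isCartan w - (j : ℤ) • (1 : Module.End ℤ (Fin l → ℤ))) := by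
  rcases nc_core' hp cs hk hka he hσ F he0 hfix hℓ hℓp hx with ⟨u, hu, hc, ho⟩ | h
  · exact Or.inl (exists_desc he0 hd hpd hu hc ho)
  · exact Or.inr h

/-- an eigenvalue of order `m` modulo `ℓ` gives a vector killed by `Φ_m` -/
theorem exists_vec {w : Module.End ℤ (Fin l → ℤ)} {N : ℕ} (hN : 0 < N) (hw : w ^ N = 1) {ℓ j m : ℕ} (hℓ : ℓ.Prime)
    (hl : l + 1 < ℓ) (hj : orderOf (j : ZMod ℓ) = m) (hm : 0 < m) {χ : Ch l k} (hχ1 : χ ≠ 1) (hχℓ : χ ^ ℓ = 1)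
    (hχ : χ ∈ KerOf k (w - (j : ℤ) • (1 : Module.End ℤ (Fin l → ℤ)))) :
    m.totient ≤ l ∧ (m.totient = l → Polynomial.aeval w (Polynomial.cyclotomic m ℤ) = 0) := by
  obtain ⟨n, hn, hwn, hℓn⟩ := order_coprime hN hw hℓ hl
  have hcyc := H378.RegFin.cyclotomic_dvd (q := j) hℓ hj hm
  have hℓm : ¬ ℓ ∣ m := by
    intro h1
    have h2 := H378.ExcNear.mod_of_od hℓ hj hm
    have h3 := hℓ.two_le
    have h4 := Nat.le_of_dvd (by omega) (h1.trans h2)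
    omega
  refine ⟨?_, fun hml => aeval_eq_zero_of_char hm hml hn hwn hℓ hℓn hℓm hcyc hχ hχ1 hχℓ⟩
  obtain ⟨Q, -, y, hy, hy1⟩ := H378.LatCodim.exists_ker hm hn hwn hℓ hℓn hℓm hcyc hχ hχ1 hχℓ
  refine H378.LatCodim.totient_le hm (fun h0 => hy1 ?_) hy
  rw [h0, ofAdd_zero, map_one]

/-- the index of the centraliser, from the core -/
theorem nc_of_core [Finite W] {x : G0} {ℓ : ℕ} [hℓ : Fact ℓ.Prime] (hx : orderOf x = ℓ) (hlℓ : l + 1 < ℓ)
    (h : ∀ (y : G0) (j : ℕ), y * x * y⁻¹ = x ^ j → ∃ (w : W) (χ : Ch l k), χ ≠ 1 ∧ χ ^ ℓ = 1 ∧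
        χ ∈ KerOf k (rep cs hp.isCartan w - (j : ℤ) • (1 : Module.End ℤ (Fin l → ℤ)))) :
    ∃ n, 0 < n ∧ Nat.card (normalizer ((zpowers x : Subgroup G0) : Set G0)) =
      Nat.card (centralizer ({x} : Set G0)) * n ∧ n ∣ ℓ - 1 ∧ n.totient ≤ l ∧
      (n.totient = l → ∃ w : W, Polynomial.aeval (rep cs hp.isCartan w) (Polynomial.cyclotomic n ℤ) = 0) := by
  obtain ⟨y, j, hyj, hcard⟩ := exists_gen hx
  obtain ⟨w, χ, hχ1, hχℓ, hχ⟩ := h y j hyj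
  have hj0 : (j : ZMod ℓ) ≠ 0 := by
    intro h0
    rw [CharP.cast_eq_zero_iff (ZMod ℓ) ℓ] at h0
    obtain ⟨i, rfl⟩ := h0
    have h1 : x ^ (ℓ * i) = 1 := by rw [pow_mul, ← hx, pow_orderOf_eq_one, one_pow]
    rw [h1] at hyj
    have h2 : x = 1 := by
      have : x = y⁻¹ * (y * x * y⁻¹) * y := by group
      rw [this, hyj]; group
    rw [h2, orderOf_one] at hx
    exact hℓ.out.one_lt.ne hx
  have hn : 0 < orderOf (j : ZMod ℓ) := by
    apply orderOf_pos_iff.2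
    exact isOfFinOrder_iff_pow_eq_one.2 ⟨ℓ - 1, by have := hℓ.out.two_le; omega, ZMod.pow_card_sub_one_eq_one hj0⟩
  obtain ⟨N, hN, hwN⟩ : ∃ N, 0 < N ∧ (rep cs hp.isCartan w) ^ N = 1 := by
    refine ⟨Nat.card W, Nat.card_pos, ?_⟩
    rw [← map_pow, pow_card_eq_one', map_one]
  obtain ⟨h1, h2⟩ := exists_vec hN hwN hℓ.out hlℓ rfl hn hχ1 hχℓ hχ
  exact ⟨_, hn, hcard, orderOf_dvd_of_pow_eq_one (ZMod.pow_card_sub_one_eq_one hj0), h1, fun h3 => ⟨w, h2 h3⟩⟩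

include hp cs hk in
/-- **The normaliser, `ℓ ∣ Φ_m(q)`, `φ(m) = l`.** -/
theorem nc_phi [Finite W] (hka : BpExc.TorAll.HAlg p k) (he : 0 < e) (hσ : IsFrob p e σ)
    (F : Fr cs hp.isCartan (TT D k) (XX D l k) σ g) (he0 : Function.Injective e0) (hfix : ∀ a, σ (e0 a) = e0 a)
    {x : G0} {ℓ : ℕ} [hℓ : Fact ℓ.Prime] (hℓp : ℓ ≠ p) (hx : orderOf x = ℓ) (hlℓ : l + 1 < ℓ) {m : ℕ} (hm : 0 < m)
    (hl : m.totient = l) (hℓm : ¬ ℓ ∣ m) (hq : (ℓ : ℤ) ∣ (Polynomial.cyclotomic m ℤ).eval ((p ^ e : ℕ) : ℤ)) :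
    ∃ n, 0 < n ∧ Nat.card (normalizer ((zpowers x : Subgroup G0) : Set G0)) =
      Nat.card (centralizer ({x} : Set G0)) * n ∧ n ∣ ℓ - 1 ∧ n.totient ≤ l ∧
      (n.totient = l → ∃ w : W, Polynomial.aeval (rep cs hp.isCartan w) (Polynomial.cyclotomic n ℤ) = 0) := by
  rcases nc_core' hp cs hk hka he hσ F he0 hfix hℓ.out hℓp hx with ⟨u, hu, hc, ho⟩ | h
  · exfalso
    have hℓW : ¬ ℓ ∣ Nat.card W := fun h => by
      have := H378.LatCodim.le_of_dvd_card cs hp.isCartan hℓ.out h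
      omega
    have hxℓ : x ^ ℓ = 1 := by rw [← hx]; exact pow_orderOf_eq_one x
    have hx1 : x ≠ 1 := by
      rintro rfl
      rw [orderOf_one] at hx
      exact hℓ.out.one_lt.ne hx
    obtain ⟨g', χ, hg', hE, -, h2⟩ := pair_core hp cs hk hka he hσ F (hfix x) hℓ.out hℓp
      (by rw [← map_pow, hxℓ, map_one]) (fun h => hx1 (he0 (h.trans (map_one _).symm))) hℓW
    obtain ⟨N, hN, hwN⟩ := exists_pow_one (cs := cs) (h := hp.isCartan) hg'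
    obtain ⟨n, hn, hwn, hℓn⟩ := order_coprime hN hwN hℓ.out hlℓ
    have hcyc := aeval_eq_zero_of_char hm hl hn hwn hℓ.out hℓn hℓm hq hE.1 hE.2.1 hE.2.2
    obtain ⟨φ, hφ⟩ := h2 fun a ha => ne_one_of_root' hg' hm hl hcyc hℓ.out hℓW hE ha
    have hdet : ((LinearMap.det (endo g' - ((p ^ e : ℕ) : ℤ) • (1 : Module.End ℤ (Fin l → ℤ))) : ℤ) : k) ≠ 0 := by
      refine det_ne_zero (endo_mul_symm g') ?_
      rw [Int.cast_natCast, Nat.cast_pow, CharP.cast_eq_zero, zero_pow he.ne']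
    have h3 : orderOf (φ ⟨u, mem_fixC.2 ⟨hu, hc⟩⟩) = p := by
      rw [orderOf_injective φ hφ, Subgroup.orderOf_mk, ho]
    have h4 := orderOf_dvd_natCard (φ ⟨u, mem_fixC.2 ⟨hu, hc⟩⟩)
    rw [h3, card_kerOf k hdet] at h4
    apply hdet
    have h5 : (p : ℤ) ∣ LinearMap.det (endo g' - ((p ^ e : ℕ) : ℤ) • (1 : Module.End ℤ (Fin l → ℤ))) :=
      Int.natCast_dvd.2 h4
    obtain ⟨z, hz⟩ := h5
    rw [hz, Int.cast_mul, Int.cast_natCast, CharP.cast_eq_zero, zero_mul]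
  · exact nc_of_core hp cs hx hlℓ h

end Cfsg.Agent.H448.FprExc
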