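import Mathlib
import Cfsg.Agent.H448.FprExc.NC
import Cfsg.Agent.H378.TwRows
import Cfsg.Agent.H365.Zsig

/-!
# The index of the centraliser in the normaliser: regular tori of the exceptional groups
-/

set_option autoImplicit false
set_option linter.unusedSectionVars false

namespace Cfsg.Agent.H448.FprExc

open CoxeterSystem Subgroup Cfsg Cfsg.Lie Cfsg.Lie.ChevalleyDatum
open Cfsg.Agent.ChevalleyStructure Cfsg.Agent.ChevalleyStructure.Elts Cfsg.Agent.ChevalleyStructure.CoxeterGeom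
  Cfsg.Agent.ChevalleyStructure.CoxeterGeomTypes Cfsg.Agent.ChevalleyStructure.NPerm
open Cfsg.Agent.Tits.Roots Cfsg.Agent.Tits.Core Cfsg.Agent.Nodes Cfsg.Agent.Nodes.Reps Cfsg.Agent.Nodes.BNOf
  Cfsg.Agent.Nodes.RGDChev Cfsg.Agent.Nodes.Bruhat
open Cfsg.Agent.KFacts.RgdField Cfsg.Agent.KFacts.RgdChevCoord Cfsg.Agent.BpExc.TorCent Cfsg.Agent.BpExc.TorChev
open Cfsg.Agent.BpExc.Tow Cfsg.Agent.BpExc.TowChev Cfsg.Agent.BpExc.FamExt Cfsg.Agent.BpExc.FamUntw
  Cfsg.Agent.BpExc.FamInst Cfsg.Agent.BpExc.LangFr Cfsg.Agent.BpExc.FamField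
open Cfsg.Agent.GpExc.Field (glMap emb coe_emb glMap_xG emb_injective coe_glMap)
open Cfsg.Agent.H378 Cfsg.Agent.H378.TorDual Cfsg.Agent.H378.TorChar Cfsg.Agent.H378.TorFin Cfsg.Agent.H378.ExcAdj

universe u

/-- **Untwisted groups.** -/
theorem nc_untw {D : ChevalleyDatum} {l : ℕ} {M : CoxeterMatrix (Fin l)} (hp : IsType D l M) {F : Type u} [Field F]
    [Finite F] {x : ↥(D.group F)} {ℓ m : ℕ} [hℓ : Fact ℓ.Prime] (hx : orderOf x = ℓ) (h : od (Nat.card F) ℓ = m)
    (hl : m.totient = l) (hlm : l < m) :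
    ∃ n, 0 < n ∧ Nat.card (normalizer ((zpowers x : Subgroup ↥(D.group F)) : Set ↥(D.group F))) =
      Nat.card (centralizer ({x} : Set ↥(D.group F))) * n ∧ n ∣ ℓ - 1 ∧ n.totient ≤ l ∧
      (n.totient = l → ∃ w : M.Group,
        Polynomial.aeval (rep M.toCoxeterSystem hp.isCartan w) (Polynomial.cyclotomic n ℤ) = 0) := by
  obtain ⟨k, _, _, f, r, _, _, n, hk, hka, hn0, hn⟩ := exists_closure F
  have := finite_W hp M.toCoxeterSystem
  have hm : 0 < m := by omega
  have hm1 := ExcNear.mod_of_od hℓ.out h hm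
  have h2 := hℓ.out.two_le
  have h3 := Nat.le_of_dvd (by omega) hm1
  have hℓr : ℓ ≠ r := by
    rintro rfl
    exact RegFin.not_dvd_q hℓ.out h hm (hn ▸ dvd_pow_self _ hn0.ne')
  have hσ : BpExc.LangFr.IsFrob r n (phi D k r n) :=
    Cfsg.Agent.H666.SigFr.isFrob_fld fun a => frb_apply k r n a
  have hFr := Cfsg.Agent.H666.SigFr.fr_fld hp M.toCoxeterSystem (frb k r n)
  exact nc_phi hp M.toCoxeterSystem hk hka hn0 hσ hFr (emb_injective hp.inList f) (phi_emb' hp f r hn) hℓr hx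
    (by omega) hm hl (fun h1 => by have := Nat.le_of_dvd hm h1; omega)
    (by rw [← hn]; exact RegFin.cyclotomic_dvd hℓ.out h hm)

section D

variable {K : Type u} [Field K] [Fintype K] {q : ℕ} (hq : IsPrimePow q) (hK : Fintype.card K = q ^ 3)

include hq hK

/-- **`³D₄(q)`** -/
theorem nc_3D4 {x : ↥(twistedD4 K q)} {r : ℕ} [hr : Fact r.Prime] (hx : orderOf x = r) (h : od q r = 12) :
    ∃ n, 0 < n ∧ Nat.card (normalizer ((zpowers x : Subgroup ↥(twistedD4 K q)) : Set ↥(twistedD4 K q))) =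
      Nat.card (centralizer ({x} : Set ↥(twistedD4 K q))) * n ∧ n ∣ r - 1 ∧ n.totient ≤ 4 ∧
      (n.totient = 4 → ∃ w : coxeterD4.Group,
        Polynomial.aeval (rep coxeterD4.toCoxeterSystem RGDTwD4.hp.isCartan w) (Polynomial.cyclotomic n ℤ) = 0) := by
  have hfin := H493.PGD4T.finW
  obtain ⟨k, _, _, f, p, _, _, n, hk, hka, hn0, hn⟩ := TorFin.exists_closure K
  obtain ⟨p', e, hp', he, hqe'⟩ := id hq
  have hpF : Fact p.Prime := inferInstance
  have hpp : p' = p := by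
    have h1 : p' ∣ p ^ n := by
      rw [← hn, Nat.card_eq_fintype_card, hK, ← hqe']
      exact dvd_pow (dvd_pow_self p' he.ne') (by norm_num)
    exact (Nat.prime_dvd_prime_iff_eq hp'.nat_prime hpF.out).1 (hp'.nat_prime.dvd_of_dvd_pow h1)
  subst hpp
  have h1 := ExcNear.mod_of_od hr.out h (by norm_num)
  have h2 := hr.out.two_le
  have h13 : 13 ≤ r := by
    have := Nat.le_of_dvd (by omega) h1
    omega
  have hqe : q = p' ^ e := hqe'.symm
  have hℓp : r ≠ p' := by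
    rintro rfl
    exact RegFin.not_dvd_q hr.out h (by norm_num) (hqe ▸ dvd_pow_self _ he.ne')
  exact nc_phi RGDTwD4.hp coxeterD4.toCoxeterSystem hk hka he H129.TriD4.isFrob_tau
    (H129.TriD4.fr_tau coxeterD4.toCoxeterSystem) (e0 := H129.TriD4.embT f hq hK) (H129.TriD4.embT_injective f hq hK)
    (fun a => H129.TriD4.tau_embT f hqe hq hK a) hℓp hx (by omega) (m := 12) (by norm_num) (by decide)
    (fun h3 => by have := Nat.le_of_dvd (by norm_num) h3; omega)
    (by rw [hqe']; exact RegFin.cyclotomic_dvd hr.out h (by norm_num))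

end D

section E

variable {K : Type u} [Field K] [Fintype K] {q : ℕ} (hq : IsPrimePow q) (hK : Fintype.card K = q ^ 2)

include hq hK

/-- **`²E₆(q)`** -/
theorem nc_2E6 {x : ↥(twistedE6 K q)} {r : ℕ} [hr : Fact r.Prime] (hx : orderOf x = r) (h : od q r = 18) :
    ∃ n, 0 < n ∧ Nat.card (normalizer ((zpowers x : Subgroup ↥(twistedE6 K q)) : Set ↥(twistedE6 K q))) =
      Nat.card (centralizer ({x} : Set ↥(twistedE6 K q))) * n ∧ n ∣ r - 1 ∧ n.totient ≤ 6 := by
  have hfin := H493.PGE6.finW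
  obtain ⟨k, _, _, f, p, _, _, e, hk, hka, he, hqe⟩ := TwRows.exists_closure' hq hK
  have h1 := ExcNear.mod_of_od hr.out h (by norm_num)
  have h2 := hr.out.two_le
  have h19 : 19 ≤ r := by
    have := Nat.le_of_dvd (by omega) h1
    omega
  have hℓp : r ≠ p := by
    rintro rfl
    exact RegFin.not_dvd_q hr.out h (by norm_num) (hqe ▸ dvd_pow_self _ he.ne')
  obtain ⟨n, h3, h4, h5, h6, -⟩ := nc_phi RGDTwE6.hp CoxeterMatrix.E₆.toCoxeterSystem hk hka he H493.TwE6Alg.isFrob_tau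
    (H493.TwE6Alg.fr_tau CoxeterMatrix.E₆.toCoxeterSystem) (e0 := H493.TwE6Alg.embT f q)
    (H493.TwE6Alg.embT_injective f q)
    (fun a => H493.TwE6Alg.tau_embT f hqe hq hK a) hℓp hx (by omega) (m := 18) (by norm_num) (by decide)
    (fun h3 => by have := Nat.le_of_dvd (by norm_num) h3; omega)
    (by rw [← hqe]; exact RegFin.cyclotomic_dvd hr.out h (by norm_num))
  exact ⟨n, h3, h4, h5, h6⟩

end E

theorem bound_of_totient {n : ℕ} (hn : 0 < n) (h : n.totient ≤ 6) : n ≤ 72 := by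
  have h1 := Cfsg.Agent.H365.Zsig.le_two_mul_totient_sq hn
  have h2 : n.totient ^ 2 ≤ 6 ^ 2 := Nat.pow_le_pow_left h 2
  omega

/-- `φ(n) ≤ 6` implies `n ≤ 18` -/
theorem le_of_totient_six {n : ℕ} (hn : 0 < n) (h : n.totient ≤ 6) : n ≤ 18 := by
  have h1 := bound_of_totient hn h
  revert h
  have key : ∀ m < 73, m.totient ≤ 6 → m ≤ 18 := by decide +kernel
  exact key n (by omega)

/-- `φ(n) ≤ 3` -/
theorem mem_of_totient_three {n : ℕ} (hn : 0 < n) (h : n.totient ≤ 3) : n ∈ [1, 2, 3, 4, 6] := by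
  have h1 := bound_of_totient hn (h.trans (by norm_num))
  have key : ∀ m < 73, 0 < m → m.totient ≤ 3 → m ∈ [1, 2, 3, 4, 6] := by decide +kernel
  exact key n (by omega) hn h

/-- `φ(n) = 4` -/
theorem mem_of_totient_four {n : ℕ} (hn : 0 < n) (h : n.totient = 4) : n ∈ [5, 8, 10, 12] := by
  have h1 := bound_of_totient hn (h.trans_le (by norm_num))
  have key : ∀ m < 73, m.totient = 4 → m ∈ [5, 8, 10, 12] := by decide +kernel
  exact key n (by omega) h

end Cfsg.Agent.H448.FprExc
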