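import Cfsg.Agent.H448.FprExc.Tor
import Cfsg.Agent.S1070

/-!
# Fixed point ratios: the Coxeter tori of `E₆`, `²E₆`
-/

set_option autoImplicit false
open Subgroup MulAction

namespace Cfsg.Agent.H448.FprExc

open Cfsg.Lie Cfsg.Agent.H409 Cfsg.Agent.H129 Cfsg.Agent.Nodes.RGDChev

universe u

section E6

open Cfsg.Agent.H129.TorusTw

variable {F : Type u} [Field F] [Fintype F]

theorem typ6 : IsType chevE6 6 CoxeterMatrix.E₆ := by simp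

theorem notW6 {r : ℕ} (hr : r.Prime) (h8 : 8 < r) : ¬ r ∣ Nat.card CoxeterMatrix.E₆.Group := fun h => by
  have := finite_W typ6 CoxeterMatrix.E₆.toCoxeterSystem
  have := Cfsg.Agent.H378.LatCodim.le_of_dvd_card CoxeterMatrix.E₆.toCoxeterSystem typ6.isCartan hr h
  omega

theorem torus12 {q N : ℕ} (hF : Fintype.card F = q) (hN : (N : ℤ) = 1 - (q : ℤ) ^ 2 + (q : ℤ) ^ 4) {r : ℕ} (hr : r.Prime)
    (h7 : 8 < r) (hrN : r ∣ N) :
    ∃ T : Subgroup ↥(chevE6.group F), IsCyclic ↥T ∧ Nat.card ↥T ∣ (q ^ 2 + q + 1) * N ∧ (q ^ 2 + q + 1) * N ∣ 3 * Nat.card ↥T ∧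
      ∀ y ∈ T, orderOf y = r → Subgroup.centralizer {y} ≤ T := by
  have := finite_W typ6 CoxeterMatrix.E₆.toCoxeterSystem
  have hrq : (r : ℤ) ∣ 1 - (q : ℤ) ^ 2 + (q : ℤ) ^ 4 := by rw [← hN]; exact Int.natCast_dvd_natCast.2 hrN
  have hG : ∀ s, ¬ (r : ℤ) ∣ Gq DataE6.B (q : ℤ) (DataE6.R s) := by
    intro s hs
    rcases DataE6.dvd_of_G hrq s hs with h1 | h1
    · exact not_dvd_int (m := 1) (by norm_num) (by omega) h1
    · exact not_dvd_int (m := 2) (by norm_num) (by omega) h1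
  have hN' : (((q ^ 2 + q + 1) * N : ℕ) : ℤ) = 1 + (q : ℤ) - (q : ℤ) ^ 3 + (q : ℤ) ^ 5 + (q : ℤ) ^ 6 := by
    push_cast
    rw [hN]
    ring
  have hqN : q.Coprime ((q ^ 2 + q + 1) * N) := UntwData.coprime_of_eq (a := 1 - (q : ℤ) ^ 2 + (q : ℤ) ^ 4 + (q : ℤ) ^ 5) (by rw [hN']; ring)
  obtain ⟨T, h1, h3, h4, h5, -⟩ := UntwT.untw_T typ6 CoxeterMatrix.E₆.toCoxeterSystem (by norm_num) hF
    TorusChar.invC_E6 (by norm_num) DataE6.hA DataE6.chainOK DataE6.cycOK DataE6.rootOK (N := (q ^ 2 + q + 1) * N)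
    (by rw [DataE6.fN_eq, hN']) hqN (d := 3) (Or.inl rfl)
  exact ⟨T, h1, h3, h4, h5 r hr (notW6 hr h7) hG⟩

/-- the value of `Φ₁₂` -/
theorem exists_N12 {q : ℕ} (hq : 2 ≤ q) : ∃ N : ℕ, (N : ℤ) = 1 - (q : ℤ) ^ 2 + (q : ℤ) ^ 4 ∧ 0 < N ∧
    N + q ^ 2 = q ^ 4 + 1 := by
  obtain ⟨a, rfl⟩ : ∃ a, q = a + 2 := ⟨q - 2, by omega⟩
  refine ⟨1 + (a + 2) ^ 2 * ((a + 1) * (a + 3)), by push_cast; ring, by positivity, by ring⟩

/-- **`E₆(q)`, `q` of order 12.** -/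
theorem row_E6_twelve {p : ℕ} [hp : Fact p.Prime] (ho : orderOf (Fintype.card F : ZMod p) = 12) :
    FprRow (p + 1) 1 p ↥(chevE6.group F) := by
  have hs := (Cfsg.Agent.S1054.result (F := F) chevE6 (by simp)).1
  obtain ⟨q, hF⟩ : ∃ q, Fintype.card F = q := ⟨_, rfl⟩
  have hq2 : 2 ≤ q := by rw [← hF]; exact Fintype.one_lt_card
  rw [hF] at ho
  have hi : ∀ H : Subgroup ↥(chevE6.group F), H ≠ ⊤ → 2 * q ^ 11 ≤ H.index := fun H hH => by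
    rw [← hF]; exact Cfsg.Agent.H934.HeisE6.two_mul_le hs H hH
  obtain ⟨N, hN, hN0, hN1⟩ := exists_N12 hq2
  have hpN := dvd_12 ho hN
  have hp8 := le_of_ord hp.out (by norm_num) ho
  obtain ⟨T, -, h1, h2, h3⟩ := torus12 hF hN hp.out (by omega) hpN
  have h4 : 2 ^ 2 ≤ q ^ 2 := Nat.pow_le_pow_left hq2 2
  refine row_of_torus h1 h2 (hpN.mul_left _) (fun h => ?_) (Nat.mul_pos (by omega) hN0) h3 hi ?_
  · have := Nat.le_of_dvd (by norm_num) h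
    omega
  · have h5 := Nat.le_of_dvd hN0 hpN
    have h6 : q ^ 2 + q + 1 ≤ 2 * q ^ 2 := by nlinarith
    calc (p + 1) * ((q ^ 2 + q + 1) * N) ≤ (q ^ 4) * ((2 * q ^ 2) * q ^ 4) :=
          Nat.mul_le_mul (by omega) (Nat.mul_le_mul h6 (by omega))
      _ = 2 * q ^ 10 := by ring
      _ ≤ 2 * q ^ 11 := Nat.mul_le_mul_left _ (Nat.pow_le_pow_right (by omega) (by norm_num))

end E6

section TE6

variable {K : Type u} [Field K] [Fintype K] {q : ℕ}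

theorem torusT12 (hq : IsPrimePow q) (hK : Fintype.card K = q ^ 2) {N : ℕ}
    (hN : (N : ℤ) = 1 - (q : ℤ) ^ 2 + (q : ℤ) ^ 4) {r : ℕ} (hr : r.Prime) (h7 : 8 < r) (hrN : r ∣ N) {M : ℕ}
    (hM : M = (q ^ 2 + 1 - q) * N) :
    ∃ T : Subgroup ↥(twistedE6 K q), IsCyclic ↥T ∧ Nat.card ↥T ∣ M ∧ M ∣ Nat.gcd 3 (q + 1) * Nat.card ↥T ∧
      ∀ y ∈ T, orderOf y = r → Subgroup.centralizer {y} ≤ T := by
  have hrq : (r : ℤ) ∣ 1 - (q : ℤ) ^ 2 + (q : ℤ) ^ 4 := by rw [← hN]; exact Int.natCast_dvd_natCast.2 hrN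
  have hG : ∀ s, ¬ (r : ℤ) ∣ H129.TorusTw.Gq H129.DataTE6c.B (q : ℤ) (H129.DataTE6c.R s) := by
    intro s hs
    rcases H129.DataTE6c.dvd_of_G hrq s hs with h1 | h1
    · exact not_dvd_int (m := 1) (by norm_num) (by omega) h1
    · exact not_dvd_int (m := 2) (by norm_num) (by omega) h1
  have h0 : q ≤ q ^ 2 + 1 := by nlinarith
  have hM' : (M : ℤ) = 1 - (q : ℤ) + (q : ℤ) ^ 3 - (q : ℤ) ^ 5 + (q : ℤ) ^ 6 := by
    rw [hM]
    push_cast [h0]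
    rw [hN]
    ring
  have hqN : q.Coprime M :=
    H129.UntwData.coprime_of_eq (a := -1 + (q : ℤ) ^ 2 - (q : ℤ) ^ 4 + (q : ℤ) ^ 5) (by rw [hM']; ring)
  obtain ⟨T, h1, h3, h4, h5, -⟩ := H129.TwT.flip_T hq hK H129.DataTE6c.hA H129.DataTE6c.chainOK H129.DataTE6c.hd_pi
    H129.DataTE6c.cycOK H129.DataTE6c.rootOK H129.DataTE6c.chain2OK H129.DataTE6c.hd2_eq (N := M)
    (by rw [H129.DataTE6c.fN_eq, hM']) hqN
  exact ⟨T, h1, h3, h4, h5 r hr (notW6 hr h7) hG⟩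

/-- **`²E₆(q)`, `q` of order 12.** -/
theorem row_2E6_twelve (hq : IsPrimePow q) (hK : Fintype.card K = q ^ 2) {p : ℕ} [hp : Fact p.Prime]
    (ho : orderOf (q : ZMod p) = 12) : FprRow (p + 1) 1 p ↥(twistedE6 K q) := by
  have hs := (Cfsg.Agent.S1070.result hq hK).1
  have hq2 : 2 ≤ q := hq.two_le
  have hi : ∀ H : Subgroup ↥(twistedE6 K q), H ≠ ⊤ → q ^ 11 ≤ H.index := fun H hH => by
    have h5 := Cfsg.Agent.H934.HeisTwE6.bound_2E6 hq hK hs H hH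
    rw [show q ^ 22 = (q ^ 11) ^ 2 by ring] at h5
    exact (Nat.pow_le_pow_iff_left (by norm_num)).1 h5
  obtain ⟨N, hN, hN0, hN1⟩ := exists_N12 hq2
  have hpN := dvd_12 ho hN
  have hp8 := le_of_ord hp.out (by norm_num) ho
  obtain ⟨T, -, h1, h2, h3⟩ := torusT12 hq hK hN hp.out (by omega) hpN rfl
  have h4 : 2 ^ 2 ≤ q ^ 2 := Nat.pow_le_pow_left hq2 2
  have h0 : 0 < q ^ 2 + 1 - q := by
    have : q < q ^ 2 + 1 := by nlinarith
    omega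
  refine row_of_torus h1 h2 (hpN.mul_left _) (fun h => ?_) (Nat.mul_pos h0 hN0) h3 hi ?_
  · have := Nat.le_of_dvd (by norm_num) (h.trans (Nat.gcd_dvd_left 3 (q + 1)))
    omega
  · have h5 := Nat.le_of_dvd hN0 hpN
    calc (p + 1) * ((q ^ 2 + 1 - q) * N) ≤ (q ^ 4) * (q ^ 2 * q ^ 4) :=
          Nat.mul_le_mul (by omega) (Nat.mul_le_mul (by omega) (by omega))
      _ = q ^ 10 := by ring
      _ ≤ q ^ 11 := Nat.pow_le_pow_right (by omega) (by norm_num)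

end TE6

end Cfsg.Agent.H448.FprExc
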