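import Cfsg.Agent.H452.FprCyc
import Cfsg.Agent.H448.FprExc.TorB
import Cfsg.Agent.H448.FprExc.NCRows
import Cfsg.Agent.H129.DataE6n
import Cfsg.Agent.H129.DataTE6n

/-!
# Fixed point ratios: cyclic tori and the normaliser; `E₆` (9), `²E₆` (18)
-/

set_option autoImplicit false
open Subgroup MulAction

namespace Cfsg.Agent.H448.FprExc

open Cfsg.Lie Cfsg.Agent.H409 Cfsg.Agent.H129 Cfsg.Agent.Nodes.RGDChev Cfsg.Agent.H378.ExcAdj

universe u

section Grp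

variable {G : Type*} [Group G] [Finite G] {p : ℕ} [hp : Fact p.Prime]

/-- the Sylow subgroups are cyclic -/
theorem cyclic_sylow {T : Subgroup G} (hT : IsCyclic ↥T) {y : G} (hyT : y ∈ T) (hy : orderOf y = p)
    (hcent : ∀ z ∈ T, orderOf z = p → Subgroup.centralizer {z} ≤ T) : ∀ P : Sylow p G, IsCyclic P := by
  have hpy : IsPGroup p (zpowers y) := IsPGroup.of_card (n := 1) (by rw [Nat.card_zpowers, hy, pow_one])
  obtain ⟨Q, hQ⟩ := hpy.exists_le_sylow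
  have hyQ : y ∈ (Q : Subgroup G) := hQ (mem_zpowers y)
  have hQc : IsCyclic Q := by
    have hnt : Nontrivial Q := ⟨⟨⟨y, hyQ⟩, 1, fun h => by
      have h1 : y = 1 := congrArg Subtype.val h
      rw [h1, orderOf_one] at hy
      exact hp.out.one_lt.ne hy⟩⟩
    have hc := Q.isPGroup'.center_nontrivial
    have hd : p ∣ Nat.card (center Q) := by
      have h1 : IsPGroup p (center Q) := Q.isPGroup'.to_subgroup _
      obtain ⟨n, hn⟩ := h1.exists_card_eq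
      have h2 := Finite.one_lt_card (α := center Q)
      rw [hn] at h2 ⊢
      rcases n with _ | n
      · simp at h2
      · exact dvd_pow_self p (Nat.succ_ne_zero n)
    obtain ⟨z, hz⟩ := exists_prime_orderOf_dvd_card' p hd
    have hz' : orderOf ((z : Q) : G) = p := by rw [Subgroup.orderOf_coe, Subgroup.orderOf_coe, hz]
    have hzc : ∀ a ∈ (Q : Subgroup G), ((z : Q) : G) * a = a * ((z : Q) : G) := fun a ha =>
      congrArg Subtype.val ((mem_center_iff.1 z.2 ⟨a, ha⟩).symm)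
    have hzT : ((z : Q) : G) ∈ T :=
      hcent y hyT hy (mem_centralizer_singleton_iff.2 (hzc y hyQ))
    have hQT : (Q : Subgroup G) ≤ T := fun a ha =>
      hcent _ hzT hz' (mem_centralizer_singleton_iff.2 (hzc a ha).symm)
    exact isCyclic_of_injective (Subgroup.inclusion hQT) (Subgroup.inclusion_injective hQT)
  intro P
  exact isCyclic_of_surjective _ (Sylow.equiv Q P).surjective

/-- **A cyclic torus and a bound for `N/C`.** -/
theorem row_of_nc {T : Subgroup G} (hT : IsCyclic ↥T) {N d i B : ℕ} (h1 : Nat.card ↥T ∣ N)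
    (h2 : N ∣ d * Nat.card ↥T) (hpN : p ∣ N) (hpd : ¬ p ∣ d) (hN : 0 < N)
    (hcent : ∀ y ∈ T, orderOf y = p → Subgroup.centralizer {y} ≤ T)
    (hnc : ∀ x : G, orderOf x = p → Nat.card (normalizer ((zpowers x : Subgroup G) : Set G)) ≤
      Nat.card (centralizer ({x} : Set G)) * B)
    (hi : ∀ H : Subgroup G, H ≠ ⊤ → i ≤ H.index) (h : (p + 1) * (N * B) ≤ p * i) : FprRow (p + 1) 1 p G := by
  have h3 : p ∣ Nat.card ↥T := (hp.out.dvd_mul.1 (hpN.trans h2)).resolve_left hpd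
  obtain ⟨y, hy⟩ := exists_prime_orderOf_dvd_card' p h3
  have hy' : orderOf (y : G) = p := by rw [← hy]; exact Subgroup.orderOf_coe y
  have hC : Nat.card (centralizer ({(y : G)} : Set G)) ≤ N :=
    (Nat.card_le_card_of_injective _ (Subgroup.inclusion_injective (hcent _ y.2 hy'))).trans (Nat.le_of_dvd hN h1)
  refine Cfsg.Agent.H452.FprCyc.row_cyclic (cyclic_sylow hT y.2 hy' hcent) hy' (N := N * B)
    ((hnc _ hy').trans (Nat.mul_le_mul_right _ hC)) fun H hH _ => ?_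
  exact h.trans (Nat.mul_le_mul_left _ (hi H hH))

end Grp

theorem dvd_9 {q p : ℕ} [hp : Fact p.Prime] {N : ℕ} (h : orderOf (q : ZMod p) = 9)
    (hN : (N : ℤ) = 1 + (q : ℤ) ^ 3 + (q : ℤ) ^ 6) : p ∣ N := by
  have h1 : (q : ZMod p) ^ 9 = 1 := by rw [← h]; exact pow_orderOf_eq_one _
  have h2 : (q : ZMod p) ^ 3 - 1 ≠ 0 := by
    intro h3
    have := orderOf_dvd_of_pow_eq_one (sub_eq_zero.1 h3)
    rw [h] at this
    exact absurd (Nat.le_of_dvd (by norm_num) this) (by norm_num)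
  rw [← CharP.cast_eq_zero_iff (ZMod p) p]
  have h3 := congrArg (fun z : ℤ => (z : ZMod p)) hN
  push_cast at h3
  have h4 : ((q : ZMod p) ^ 3 - 1) * (N : ZMod p) = 0 := by
    rw [h3]
    linear_combination h1
  exact (mul_eq_zero.1 h4).resolve_left h2

section E6

open Cfsg.Agent.H129.TorusTw

variable {F : Type u} [Field F] [Fintype F]

theorem torus9 {q N : ℕ} (hF : Fintype.card F = q) (hN : (N : ℤ) = 1 + (q : ℤ) ^ 3 + (q : ℤ) ^ 6) {r : ℕ} (hr : r.Prime)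
    (h7 : 8 < r) (hrN : r ∣ N) :
    ∃ T : Subgroup ↥(chevE6.group F), IsCyclic ↥T ∧ Nat.card ↥T ∣ N ∧ N ∣ 3 * Nat.card ↥T ∧
      ∀ y ∈ T, orderOf y = r → Subgroup.centralizer {y} ≤ T := by
  have := finite_W typ6 CoxeterMatrix.E₆.toCoxeterSystem
  have hrq : (r : ℤ) ∣ 1 + (q : ℤ) ^ 3 + (q : ℤ) ^ 6 := by rw [← hN]; exact Int.natCast_dvd_natCast.2 hrN
  have hG : ∀ s, ¬ (r : ℤ) ∣ Gq DataE6n.B (q : ℤ) (DataE6n.R s) := by
    intro s hs
    rcases DataE6n.dvd_of_G hrq s hs with h1 | h1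
    · exact not_dvd_int (m := 1) (by norm_num) (by omega) h1
    · exact not_dvd_int (m := 3) (by norm_num) (by omega) h1
  have hqN : q.Coprime N := UntwData.coprime_of_eq (a := (q : ℤ) ^ 2 + (q : ℤ) ^ 5) (by rw [hN]; ring)
  obtain ⟨T, h1, h3, h4, h5, -⟩ := UntwT.untw_T typ6 CoxeterMatrix.E₆.toCoxeterSystem (by norm_num) hF
    TorusChar.invC_E6 (by norm_num) DataE6n.hA DataE6n.chainOK DataE6n.cycOK DataE6n.rootOK (N := N)
    (by rw [DataE6n.fN_eq, hN]) hqN (d := 3) (Or.inl rfl)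
  exact ⟨T, h1, h3, h4, h5 r hr (notW6 hr h7) hG⟩

/-- **`E₆(q)`, `q` of order 9.** -/
theorem row_E6_nine {p : ℕ} [hp : Fact p.Prime] (ho : orderOf (Fintype.card F : ZMod p) = 9) :
    FprRow (p + 1) 1 p ↥(chevE6.group F) := by
  have hs := (Cfsg.Agent.S1054.result (F := F) chevE6 (by simp)).1
  obtain ⟨q, hF⟩ : ∃ q, Fintype.card F = q := ⟨_, rfl⟩
  have hq2 : 2 ≤ q := by rw [← hF]; exact Fintype.one_lt_card
  have ho' : od (Nat.card F) p = 9 := by rw [Nat.card_eq_fintype_card]; exact ho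
  rw [hF] at ho
  have hi : ∀ H : Subgroup ↥(chevE6.group F), H ≠ ⊤ → 2 * q ^ 11 ≤ H.index := fun H hH => by
    rw [← hF]; exact Cfsg.Agent.H934.HeisE6.two_mul_le hs H hH
  have hp8 := le_of_ord hp.out (by norm_num) ho
  have hN : ((q ^ 6 + q ^ 3 + 1 : ℕ) : ℤ) = 1 + (q : ℤ) ^ 3 + (q : ℤ) ^ 6 := by push_cast; ring
  have hpN := dvd_9 ho hN
  obtain ⟨T, hT, h1, h2, h3⟩ := torus9 hF hN hp.out (by omega) hpN
  refine row_of_nc hT h1 h2 hpN (fun h => ?_) (by positivity) h3 (B := 18) (fun x hx => ?_) hi ?_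
  · have := Nat.le_of_dvd (by norm_num) h
    omega
  · obtain ⟨n, hn, h4, -, h5, -⟩ := nc_untw typ6 hx ho' (by decide) (by norm_num)
    rw [h4]
    exact Nat.mul_le_mul_left _ (le_of_totient_six hn h5)
  · have h4 : 2 ^ 3 ≤ q ^ 3 := Nat.pow_le_pow_left hq2 3
    have h5 : 2 ^ 5 ≤ q ^ 5 := Nat.pow_le_pow_left hq2 5
    have h6 : q ^ 6 + q ^ 3 + 1 ≤ 2 * q ^ 6 := by
      have : q ^ 6 = q ^ 3 * q ^ 3 := by ring
      nlinarith
    have h7 : q ^ 6 * 32 ≤ q ^ 11 := by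
      calc q ^ 6 * 32 ≤ q ^ 6 * q ^ 5 := Nat.mul_le_mul_left _ h5
        _ = q ^ 11 := by ring
    have h8 : (p + 1) * 9 ≤ p * 10 := by omega
    -- `(p + 1) * 18 * N ≤ 20 p N ≤ 40 p q ^ 6`
    calc (p + 1) * ((q ^ 6 + q ^ 3 + 1) * 18) = ((p + 1) * 9) * (2 * (q ^ 6 + q ^ 3 + 1)) := by ring
      _ ≤ (p * 10) * (2 * (2 * q ^ 6)) := Nat.mul_le_mul h8 (Nat.mul_le_mul_left _ h6)
      _ = p * (40 * q ^ 6) := by ring
      _ ≤ p * (2 * q ^ 11) := Nat.mul_le_mul_left _ (by omega)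

end E6

section TE6

variable {K : Type u} [Field K] [Fintype K] {q : ℕ}

theorem torusT18 (hq : IsPrimePow q) (hK : Fintype.card K = q ^ 2) {N : ℕ}
    (hN : (N : ℤ) = 1 - (q : ℤ) ^ 3 + (q : ℤ) ^ 6) {r : ℕ} (hr : r.Prime) (h7 : 8 < r) (hrN : r ∣ N) :
    ∃ T : Subgroup ↥(twistedE6 K q), IsCyclic ↥T ∧ Nat.card ↥T ∣ N ∧ N ∣ Nat.gcd 3 (q + 1) * Nat.card ↥T ∧
      ∀ y ∈ T, orderOf y = r → Subgroup.centralizer {y} ≤ T := by
  have hrq : (r : ℤ) ∣ 1 - (q : ℤ) ^ 3 + (q : ℤ) ^ 6 := by rw [← hN]; exact Int.natCast_dvd_natCast.2 hrN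
  have hG : ∀ s, ¬ (r : ℤ) ∣ H129.TorusTw.Gq H129.DataTE6n.B (q : ℤ) (H129.DataTE6n.R s) := by
    intro s hs
    rcases H129.DataTE6n.dvd_of_G hrq s hs with h1 | h1
    · exact not_dvd_int (m := 1) (by norm_num) (by omega) h1
    · exact not_dvd_int (m := 3) (by norm_num) (by omega) h1
  have hqN : q.Coprime N := H129.UntwData.coprime_of_eq (a := -(q : ℤ) ^ 2 + (q : ℤ) ^ 5) (by rw [hN]; ring)
  obtain ⟨T, h1, h3, h4, h5, -⟩ := H129.TwT.flip_T hq hK H129.DataTE6n.hA H129.DataTE6n.chainOK H129.DataTE6n.hd_pi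
    H129.DataTE6n.cycOK H129.DataTE6n.rootOK H129.DataTE6n.chain2OK H129.DataTE6n.hd2_eq (N := N)
    (by rw [H129.DataTE6n.fN_eq, hN]) hqN
  exact ⟨T, h1, h3, h4, h5 r hr (notW6 hr h7) hG⟩

/-- **`²E₆(q)`, `q` of order 18.** -/
theorem row_2E6_eighteen (hq : IsPrimePow q) (hK : Fintype.card K = q ^ 2) {p : ℕ} [hp : Fact p.Prime]
    (ho : orderOf (q : ZMod p) = 18) : FprRow (p + 1) 1 p ↥(twistedE6 K q) := by
  have hs := (Cfsg.Agent.S1070.result hq hK).1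
  have hq2 : 2 ≤ q := hq.two_le
  have hi : ∀ H : Subgroup ↥(twistedE6 K q), H ≠ ⊤ → q ^ 11 ≤ H.index := fun H hH => by
    have h5 := Cfsg.Agent.H934.HeisTwE6.bound_2E6 hq hK hs H hH
    rw [show q ^ 22 = (q ^ 11) ^ 2 by ring] at h5
    exact (Nat.pow_le_pow_iff_left (by norm_num)).1 h5
  have hp8 := le_of_ord hp.out (by norm_num) ho
  have h4 : 2 ^ 3 ≤ q ^ 3 := Nat.pow_le_pow_left hq2 3
  obtain ⟨N, hN, hN1⟩ : ∃ N : ℕ, (N : ℤ) = 1 - (q : ℤ) ^ 3 + (q : ℤ) ^ 6 ∧ N + q ^ 3 = q ^ 6 + 1 := by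
    have h5 : q ^ 3 ≤ q ^ 6 := Nat.pow_le_pow_right (by omega) (by norm_num)
    exact ⟨q ^ 6 - q ^ 3 + 1, by push_cast [h5]; ring, by omega⟩
  have hN0 : 0 < N := by
    have h5 : q ^ 3 ≤ q ^ 6 := Nat.pow_le_pow_right (by omega) (by norm_num)
    omega
  have hpN := dvd_18 ho hN
  obtain ⟨T, hT, h1, h2, h3⟩ := torusT18 hq hK hN hp.out (by omega) hpN
  refine row_of_nc hT h1 h2 hpN (fun h => ?_) hN0 h3 (B := 18) (fun x hx => ?_) hi ?_
  · have := Nat.le_of_dvd (by norm_num) (h.trans (Nat.gcd_dvd_left 3 (q + 1)))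
    omega
  · obtain ⟨n, hn, h4, -, h5⟩ := nc_2E6 hq hK hx ho
    rw [h4]
    exact Nat.mul_le_mul_left _ (le_of_totient_six hn h5)
  · have h5 : 2 ^ 5 ≤ q ^ 5 := Nat.pow_le_pow_left hq2 5
    have h7 : q ^ 6 * 32 ≤ q ^ 11 := by
      calc q ^ 6 * 32 ≤ q ^ 6 * q ^ 5 := Nat.mul_le_mul_left _ h5
        _ = q ^ 11 := by ring
    have h8 : (p + 1) * 9 ≤ p * 10 := by omega
    calc (p + 1) * (N * 18) = ((p + 1) * 9) * (2 * N) := by ring
      _ ≤ (p * 10) * (2 * q ^ 6) := Nat.mul_le_mul h8 (Nat.mul_le_mul_left _ (by omega))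
      _ = p * (20 * q ^ 6) := by ring
      _ ≤ p * q ^ 11 := Nat.mul_le_mul_left _ (by omega)

end TE6

end Cfsg.Agent.H448.FprExc
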