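import Cfsg.Agent.H448.FprExc.RowG2

/-!
# Fixed point ratios: `G₂(q)`, `q` of order 3 or 6
-/

set_option autoImplicit false
open Subgroup MulAction

namespace Cfsg.Agent.H448.FprExc

open Cfsg.Lie Cfsg.Agent.H409

universe u

variable {F : Type u} [Field F] [Fintype F]

theorem cast_card : ((Fintype.card F : ℕ) : F) = 0 := by
  exact FiniteField.cast_card_eq_zero F

/-- the large fields -/
theorem row_G2_large (h5 : 5 ≤ Fintype.card F) {p : ℕ} [hp : Fact p.Prime]
    (ho : orderOf (Fintype.card F : ZMod p) = 3 ∨ orderOf (Fintype.card F : ZMod p) = 6) :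
    FprRow (p + 1) 1 p ↥(chevG2.group F) := by
  obtain ⟨hs, hna⟩ := simple_G2 (F := F) (by omega)
  obtain ⟨N, hT, hN0, hN⟩ := exists_tor ho
  by_cases h3 : (3 : F) = 0
  · -- characteristic 3
    have h3' : 3 ∣ Fintype.card F := by
      have h : CharP F 3 := by
        have h1 : ringChar F ∣ 3 := ringChar.dvd (by exact_mod_cast h3)
        rcases (Nat.dvd_prime Nat.prime_three).1 h1 with h | h
        · exact absurd h (CharP.ringChar_ne_one)
        · exact ringChar.of_eq h
      exact (CharP.cast_eq_zero_iff F 3 _).1 cast_card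
    refine hT.row_large hN0 (fun H hH => idx_three (by omega) (by omega) H hH) ?_
    have h6 : 25 ≤ Fintype.card F ^ 2 := by nlinarith
    have h7 : Fintype.card F ^ 4 = Fintype.card F ^ 2 * Fintype.card F ^ 2 := by ring
    nlinarith
  · by_cases h2 : (2 : F) = 0
    · have h8 : 8 ≤ Fintype.card F := by
        obtain ⟨n, hp, hn⟩ := FiniteField.card F (ringChar F)
        have h1 : ringChar F ∣ 2 := ringChar.dvd (by exact_mod_cast h2)
        have h4 : ringChar F = 2 := by
          rcases (Nat.dvd_prime Nat.prime_two).1 h1 with h | h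
          · exact absurd h (CharP.ringChar_ne_one)
          · exact h
        rw [h4] at hn
        have h5' : 3 ≤ (n : ℕ) := by
          by_contra h6
          push Not at h6
          have h7 : 2 ^ (n : ℕ) ≤ 2 ^ 2 := Nat.pow_le_pow_right (by norm_num) (by omega)
          omega
        rw [hn]
        calc 8 = 2 ^ 3 := by norm_num
          _ ≤ 2 ^ (n : ℕ) := Nat.pow_le_pow_right (by norm_num) h5'
      refine hT.row_large hN0 (fun H hH => Cfsg.Agent.H599.IdxG2.cube_le h3 hs H hH) ?_
      have h7 : Fintype.card F ^ 3 = Fintype.card F * Fintype.card F ^ 2 := by ring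
      have h9 : 8 * Fintype.card F ^ 2 ≤ Fintype.card F ^ 3 := by rw [h7]; exact Nat.mul_le_mul_right _ h8
      have h10 : 8 * Fintype.card F ≤ Fintype.card F ^ 2 := by nlinarith
      omega
    · refine hT.row_large hN0 (fun H hH => idx_six h2 h3 hs H hH) ?_
      have h6 : 25 ≤ Fintype.card F ^ 2 := by nlinarith
      have h7 : Fintype.card F ^ 4 = Fintype.card F ^ 2 * Fintype.card F ^ 2 := by ring
      have h8 : Fintype.card F ≤ Fintype.card F ^ 2 := Nat.le_self_pow (by norm_num) _
      have h9 : 5 * Fintype.card F ≤ Fintype.card F ^ 2 := by nlinarith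
      have h10 : 25 * Fintype.card F ^ 2 ≤ Fintype.card F ^ 4 := by rw [h7]; exact Nat.mul_le_mul_right _ h6
      omega

theorem char_of {r n : ℕ} (hr : r.Prime) (h : Fintype.card F = r ^ n) : CharP F r := by
  obtain ⟨m, hp, hm⟩ := FiniteField.card F (ringChar F)
  have h1 : ringChar F ∣ r ^ n := by rw [← h, hm]; exact dvd_pow_self _ m.2.ne'
  exact ringChar.of_eq ((Nat.prime_dvd_prime_iff_eq hp hr).1 (hp.dvd_of_dvd_pow h1))

/-- `G₂(4)`, `p = 13` -/
theorem row_G2_four_13 (h4 : Fintype.card F = 4) (ho : orderOf ((Fintype.card F : ℕ) : ZMod 13) = 6) :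
    FprRow (13 + 1) 1 13 ↥(chevG2.group F) := by
  have hp : Fact (Nat.Prime 13) := ⟨by norm_num⟩
  have hT := tor6 ho (N := 13) (by rw [h4]; norm_num)
  obtain ⟨hs, hna⟩ := simple_G2 (F := F) (by omega)
  have hc := char_of (F := F) (r := 2) (n := 2) Nat.prime_two (by rw [h4]; norm_num)
  have h3 : (3 : F) ≠ 0 := by
    intro h
    have : (3 : F) = ((3 : ℕ) : F) := by norm_num
    rw [this, CharP.cast_eq_zero_iff F 2] at h
    omega
  have hcard : Nat.card ↥(chevG2.group F) = 251596800 := by rw [Cfsg.Agent.S1059.result h4]; norm_num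
  refine hT.row_small (c := 1) (L := [1, 2, 3, 4, 6]) (by norm_num) (by decide) (by rw [hcard]; norm_num) (i0 := 64)
    (fun H hH => by have := Cfsg.Agent.H599.IdxG2.cube_le h3 hs H hH; rw [h4] at this; exact this)
    (fun _ _ => False) (fun H hH n hn f hf hE _ => hE) ?_
  have key : chk [1, 2, 3, 4, 6] 13 64 251596800 (fun _ _ _ => false) = true := by decide +kernel
  intro n hn f hf hf0 m h5 h6 h7 h8
  rw [hcard] at h8
  exact absurd ((of_chk key n hn).2 f hf hf0 m h5 h6 h7 h8) (by decide)

/-- `G₂(4)`, `p = 7` -/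
theorem row_G2_four_7 (h4 : Fintype.card F = 4) (ho : orderOf ((Fintype.card F : ℕ) : ZMod 7) = 3) :
    FprRow (7 + 1) 1 7 ↥(chevG2.group F) := by
  have hp : Fact (Nat.Prime 7) := ⟨by norm_num⟩
  have hT := tor3 ho (N := 21) (by rw [h4]; norm_num)
  obtain ⟨hs, hna⟩ := simple_G2 (F := F) (by omega)
  have hc := char_of (F := F) (r := 2) (n := 2) Nat.prime_two (by rw [h4]; norm_num)
  have h3 : (3 : F) ≠ 0 := by
    intro h
    have : (3 : F) = ((3 : ℕ) : F) := by norm_num
    rw [this, CharP.cast_eq_zero_iff F 2] at h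
    omega
  have hcard : Nat.card ↥(chevG2.group F) = 251596800 := by rw [Cfsg.Agent.S1059.result h4]; norm_num
  refine hT.row_small (c := 3) (L := [3, 6, 9, 18]) (by norm_num) (by decide) (by rw [hcard]; norm_num) (i0 := 64)
    (fun H hH => by have := Cfsg.Agent.H599.IdxG2.cube_le h3 hs H hH; rw [h4] at this; exact this)
    (fun m f => m = 65 ∨ m = 130 ∧ f = 18) ?_ ?_
  · rintro H hH n hn f hf (hm | ⟨hm, rfl⟩) hs'
    · have := own_idx 2 hH (by rw [hm]; norm_num)
      rw [h4, hm] at this
      norm_num at this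
    · have hn18 : 18 = n := by
        simp only [List.mem_cons, List.not_mem_nil, or_false] at hn
        rcases hn with rfl | rfl | rfl | rfl
        · exact absurd (Nat.le_of_dvd (by norm_num) hf) (by norm_num)
        · exact absurd (Nat.le_of_dvd (by norm_num) hf) (by norm_num)
        · exact absurd (Nat.le_of_dvd (by norm_num) hf) (by norm_num)
        · rfl
      have h7 : Nat.card H * 130 = 251596800 := by rw [← hcard, ← H.card_mul_index, hm]
      have h8 : Nat.card H = 1935360 := by omega
      have h9 := hs' hn18 3 3 (by norm_num) (by norm_num) (by rw [h8]; norm_num) (by rw [h8]; norm_num)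
      exact absurd h9 (by decide)
  · have key : chk [3, 6, 9, 18] 7 64 251596800 (fun _ f m => m == 65 || m == 130 && f == 18) = true := by
      decide +kernel
    intro n hn f hf hf0 m h5 h6 h7 h8
    rw [hcard] at h8
    have h9 := (of_chk key n hn).2 f hf hf0 m h5 h6 h7 h8
    rw [Bool.or_eq_true, Bool.and_eq_true] at h9
    rcases h9 with h9 | h9
    · exact Or.inl (by simpa using h9)
    · exact Or.inr ⟨by simpa using h9.1, by simpa using h9.2⟩

/-- `G₂(3)`, `p = 13` -/
theorem row_G2_three_13 (h4 : Fintype.card F = 3) (ho : orderOf ((Fintype.card F : ℕ) : ZMod 13) = 3) :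
    FprRow (13 + 1) 1 13 ↥(chevG2.group F) := by
  have hp : Fact (Nat.Prime 13) := ⟨by norm_num⟩
  have hT := tor3 ho (N := 13) (by rw [h4]; norm_num)
  obtain ⟨hs, hna⟩ := simple_G2 (F := F) (by omega)
  have hc := char_of (F := F) (r := 3) (n := 1) Nat.prime_three (by rw [h4]; norm_num)
  have hcard : Nat.card ↥(chevG2.group F) = 4245696 := by rw [Cfsg.Agent.S1059.result h4]; norm_num
  refine hT.row_small (c := 1) (L := [1, 2, 3, 4, 6]) (by norm_num) (by decide) (by rw [hcard]; norm_num) (i0 := 13)
    (fun H hH => prime_le_index (by norm_num) (by rw [hcard]; norm_num) hH)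
    (fun m _ => m = 16 ∨ m = 32) ?_ ?_
  · rintro H hH n hn f hf (hm | hm) hs'
    · have := own_idx 3 hH (by rw [hm]; norm_num)
      rw [h4, hm] at this
      norm_num at this
    · have := own_idx 3 hH (by rw [hm]; norm_num)
      rw [h4, hm] at this
      norm_num at this
  · have key : chk [1, 2, 3, 4, 6] 13 13 4245696 (fun _ _ m => m == 16 || m == 32) = true := by decide +kernel
    intro n hn f hf hf0 m h5 h6 h7 h8
    rw [hcard] at h8
    have h9 := (of_chk key n hn).2 f hf hf0 m h5 h6 h7 h8
    rw [Bool.or_eq_true] at h9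
    rcases h9 with h9 | h9
    · exact Or.inl (by simpa using h9)
    · exact Or.inr (by simpa using h9)

/-- `G₂(3)`, `p = 7` -/
theorem row_G2_three_7 (h4 : Fintype.card F = 3) (ho : orderOf ((Fintype.card F : ℕ) : ZMod 7) = 6) :
    FprRow (7 + 1) 1 7 ↥(chevG2.group F) := by
  have hp : Fact (Nat.Prime 7) := ⟨by norm_num⟩
  have hT := tor6 ho (N := 7) (by rw [h4]; norm_num)
  obtain ⟨hs, hna⟩ := simple_G2 (F := F) (by omega)
  have hc := char_of (F := F) (r := 3) (n := 1) Nat.prime_three (by rw [h4]; norm_num)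
  have hcard : Nat.card ↥(chevG2.group F) = 4245696 := by rw [Cfsg.Agent.S1059.result h4]; norm_num
  refine hT.row_small (c := 1) (L := [1, 2, 3, 6]) (by norm_num) (by decide) (by rw [hcard]; norm_num) (i0 := 13)
    (fun H hH => prime_le_index (by norm_num) (by rw [hcard]; norm_num) hH)
    (fun m f => m = 13 ∨ m = 27 ∧ f = 6) ?_ ?_
  · rintro H hH n hn f hf (hm | ⟨hm, rfl⟩) hs'
    · have := own_idx 3 hH (by rw [hm]; norm_num)
      rw [h4, hm] at this
      norm_num at this
    · have hn6 : 6 = n := by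
        simp only [List.mem_cons, List.not_mem_nil, or_false] at hn
        rcases hn with rfl | rfl | rfl | rfl
        · exact absurd (Nat.le_of_dvd (by norm_num) hf) (by norm_num)
        · exact absurd (Nat.le_of_dvd (by norm_num) hf) (by norm_num)
        · exact absurd (Nat.le_of_dvd (by norm_num) hf) (by norm_num)
        · rfl
      have h7 : Nat.card H * 27 = 4245696 := by rw [← hcard, ← H.card_mul_index, hm]
      have h8 : Nat.card H = 157248 := by omega
      have h9 := hs' hn6 13 1 (by norm_num) (by norm_num) (by rw [h8]; norm_num) (by rw [h8]; norm_num)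
      exact absurd h9 (by decide)
  · have key : chk [1, 2, 3, 6] 7 13 4245696 (fun _ f m => m == 13 || m == 27 && f == 6) = true := by
      decide +kernel
    intro n hn f hf hf0 m h5 h6 h7 h8
    rw [hcard] at h8
    have h9 := (of_chk key n hn).2 f hf hf0 m h5 h6 h7 h8
    rw [Bool.or_eq_true, Bool.and_eq_true] at h9
    rcases h9 with h9 | h9
    · exact Or.inl (by simpa using h9)
    · exact Or.inr ⟨by simpa using h9.1, by simpa using h9.2⟩

/-- **`G₂(q)`, `q ≥ 3` of order 3 or 6.** -/
theorem row_G2 (h3 : 3 ≤ Fintype.card F) {p : ℕ} [hp : Fact p.Prime]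
    (ho : orderOf (Fintype.card F : ZMod p) = 3 ∨ orderOf (Fintype.card F : ZMod p) = 6) :
    FprRow (p + 1) 1 p ↥(chevG2.group F) := by
  by_cases h5 : 5 ≤ Fintype.card F
  · exact row_G2_large h5 ho
  have h7 := seven_le ho
  obtain h4 | h4 : Fintype.card F = 3 ∨ Fintype.card F = 4 := by omega
  · rcases ho with ho | ho
    · have hd : p ∣ 13 := dvd_of_eval ho (by norm_num) (by rw [eval_cyc3, h4]; norm_num)
      obtain rfl := (Nat.prime_dvd_prime_iff_eq hp.out (by norm_num)).1 hd
      exact row_G2_three_13 h4 ho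
    · have hd : p ∣ 7 := dvd_of_eval ho (by norm_num) (by rw [eval_cyc6, h4]; norm_num)
      obtain rfl := (Nat.prime_dvd_prime_iff_eq hp.out (by norm_num)).1 hd
      exact row_G2_three_7 h4 ho
  · rcases ho with ho | ho
    · have hd : p ∣ 21 := dvd_of_eval ho (by norm_num) (by rw [eval_cyc3, h4]; norm_num)
      have hd' : p ∣ 3 * 7 := hd
      rcases hp.out.dvd_mul.1 hd' with h | h
      · exact absurd (Nat.le_of_dvd (by norm_num) h) (by omega)
      · obtain rfl := (Nat.prime_dvd_prime_iff_eq hp.out (by norm_num)).1 h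
        exact row_G2_four_7 h4 ho
    · have hd : p ∣ 13 := dvd_of_eval ho (by norm_num) (by rw [eval_cyc6, h4]; norm_num)
      obtain rfl := (Nat.prime_dvd_prime_iff_eq hp.out (by norm_num)).1 hd
      exact row_G2_four_13 h4 ho

end Cfsg.Agent.H448.FprExc
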