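import Cfsg.Agent.H448.FprExc.Cyc
import Cfsg.Agent.H129.UntwT
import Cfsg.Agent.H129.TwT
import Cfsg.Agent.H129.DataE7h
import Cfsg.Agent.H129.DataE7m
import Cfsg.Agent.H129.DataE6
import Cfsg.Agent.H129.DataTE6c
import Cfsg.Agent.H378.RegFin
import Cfsg.Agent.H934.HeisE7
import Cfsg.Agent.H934.HeisE6
import Cfsg.Agent.H934.HeisTwE6
import Cfsg.Agent.S1054

/-!
# Fixed point ratios: tori of `E₇`, `E₆`, `²E₆`
-/

set_option autoImplicit false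
open Subgroup MulAction

namespace Cfsg.Agent.H448.FprExc

open Cfsg.Lie Cfsg.Agent.H409 Cfsg.Agent.H129 Cfsg.Agent.H129.TorusTw Cfsg.Agent.Nodes.RGDChev

universe u

/-- **A torus containing the centralisers**: the direct criterion. -/
theorem row_of_torus {G : Type*} [Group G] [Finite G] {p : ℕ} [hp : Fact p.Prime] {T : Subgroup G} {N d i : ℕ}
    (h1 : Nat.card ↥T ∣ N) (h2 : N ∣ d * Nat.card ↥T) (hpN : p ∣ N) (hpd : ¬ p ∣ d) (hN : 0 < N)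
    (hcent : ∀ y ∈ T, orderOf y = p → Subgroup.centralizer {y} ≤ T) (hi : ∀ H : Subgroup G, H ≠ ⊤ → i ≤ H.index)
    (h : (p + 1) * N ≤ i) : FprRow (p + 1) 1 p G := by
  have h3 : p ∣ Nat.card ↥T := (hp.out.dvd_mul.1 (hpN.trans h2)).resolve_left hpd
  obtain ⟨y, hy⟩ := exists_prime_orderOf_dvd_card' p h3
  have hy' : orderOf (y : G) = p := by rw [← hy]; exact Subgroup.orderOf_coe y
  refine row_direct hy' ((Nat.card_le_card_of_injective _ (Subgroup.inclusion_injective (hcent _ y.2 hy'))).trans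
    (Nat.le_of_dvd hN h1)) hi h

theorem not_dvd_int {p : ℕ} {m : ℕ} (hm : 0 < m) (h : m < p) : ¬ (p : ℤ) ∣ (m : ℤ) := by
  intro h1
  have := Nat.le_of_dvd hm (Int.natCast_dvd_natCast.1 h1)
  omega

theorem le_of_ord {q p m : ℕ} (hp : p.Prime) (hm : 0 < m) (h : orderOf (q : ZMod p) = m) : m + 1 ≤ p := by
  have h1 := Cfsg.Agent.H378.ExcNear.mod_of_od hp h hm
  have h2 := hp.two_le
  have h3 := Nat.le_of_dvd (by omega) h1
  omega

section Ord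

variable {q p : ℕ} [hp : Fact p.Prime]

theorem half_eq {n : ℕ} (hn : 0 < n) (h : orderOf (q : ZMod p) = 2 * n) : ((q : ZMod p)) ^ n = -1 := by
  have h1 : ((q : ZMod p)) ^ (2 * n) = 1 := by rw [← h]; exact pow_orderOf_eq_one _
  have h2 : ((q : ZMod p) ^ n - 1) * ((q : ZMod p) ^ n + 1) = 0 := by
    rw [mul_comm 2 n, pow_mul] at h1
    linear_combination h1
  rcases mul_eq_zero.1 h2 with h3 | h3
  · exfalso
    have h4 := orderOf_dvd_of_pow_eq_one (sub_eq_zero.1 h3)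
    rw [h] at h4
    have := Nat.le_of_dvd hn h4
    omega
  · exact eq_neg_of_add_eq_zero_left h3

theorem dvd_14 {N : ℕ} (h : orderOf (q : ZMod p) = 14) (hN : (N : ℤ) = 1 - (q : ℤ) + (q : ℤ) ^ 2 - (q : ℤ) ^ 3 +
    (q : ℤ) ^ 4 - (q : ℤ) ^ 5 + (q : ℤ) ^ 6) : p ∣ N := by
  have h1 := half_eq (n := 7) (by norm_num) h
  have h2 : (q : ZMod p) + 1 ≠ 0 := by
    intro h3
    have h4 : (q : ZMod p) ^ 2 = 1 := by rw [eq_neg_of_add_eq_zero_left h3]; ring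
    have := orderOf_dvd_of_pow_eq_one h4
    rw [h] at this
    exact absurd (Nat.le_of_dvd (by norm_num) this) (by norm_num)
  rw [← CharP.cast_eq_zero_iff (ZMod p) p]
  have h3 := congrArg (fun z : ℤ => (z : ZMod p)) hN
  push_cast at h3
  have h4 : ((q : ZMod p) + 1) * (N : ZMod p) = 0 := by
    rw [h3]
    linear_combination h1
  exact (mul_eq_zero.1 h4).resolve_left h2

theorem dvd_18 {N : ℕ} (h : orderOf (q : ZMod p) = 18) (hN : (N : ℤ) = 1 - (q : ℤ) ^ 3 + (q : ℤ) ^ 6) : p ∣ N := by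
  have h1 := half_eq (n := 9) (by norm_num) h
  have h2 : (q : ZMod p) ^ 3 + 1 ≠ 0 := by
    intro h3
    have h4 : (q : ZMod p) ^ 6 = 1 := by
      rw [show 6 = 3 * 2 by norm_num, pow_mul, eq_neg_of_add_eq_zero_left h3]; ring
    have := orderOf_dvd_of_pow_eq_one h4
    rw [h] at this
    exact absurd (Nat.le_of_dvd (by norm_num) this) (by norm_num)
  rw [← CharP.cast_eq_zero_iff (ZMod p) p]
  have h3 := congrArg (fun z : ℤ => (z : ZMod p)) hN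
  push_cast at h3
  have h4 : ((q : ZMod p) ^ 3 + 1) * (N : ZMod p) = 0 := by
    rw [h3]
    linear_combination h1
  exact (mul_eq_zero.1 h4).resolve_left h2

theorem dvd_12 {N : ℕ} (h : orderOf (q : ZMod p) = 12) (hN : (N : ℤ) = 1 - (q : ℤ) ^ 2 + (q : ℤ) ^ 4) : p ∣ N := by
  have h1 := half_eq (n := 6) (by norm_num) h
  have h2 : (q : ZMod p) ^ 2 + 1 ≠ 0 := by
    intro h3
    have h4 : (q : ZMod p) ^ 4 = 1 := by
      rw [show 4 = 2 * 2 by norm_num, pow_mul, eq_neg_of_add_eq_zero_left h3]; ring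
    have := orderOf_dvd_of_pow_eq_one h4
    rw [h] at this
    exact absurd (Nat.le_of_dvd (by norm_num) this) (by norm_num)
  rw [← CharP.cast_eq_zero_iff (ZMod p) p]
  have h3 := congrArg (fun z : ℤ => (z : ZMod p)) hN
  push_cast at h3
  have h4 : ((q : ZMod p) ^ 2 + 1) * (N : ZMod p) = 0 := by
    rw [h3]
    linear_combination h1
  exact (mul_eq_zero.1 h4).resolve_left h2

end Ord

section E7

variable {F : Type u} [Field F] [Fintype F]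

theorem typ7 : IsType chevE7 7 CoxeterMatrix.E₇ := by simp

theorem notW7 {r : ℕ} (hr : r.Prime) (h8 : 8 < r) : ¬ r ∣ Nat.card CoxeterMatrix.E₇.Group := fun h => by
  have := finite_W typ7 CoxeterMatrix.E₇.toCoxeterSystem
  have := Cfsg.Agent.H378.LatCodim.le_of_dvd_card CoxeterMatrix.E₇.toCoxeterSystem typ7.isCartan hr h
  omega

theorem torus18 {q N : ℕ} (hF : Fintype.card F = q) (hN : (N : ℤ) = 1 - (q : ℤ) ^ 3 + (q : ℤ) ^ 6) {r : ℕ} (hr : r.Prime)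
    (h7 : 8 < r) (hrN : r ∣ N) :
    ∃ T : Subgroup ↥(chevE7.group F), IsCyclic ↥T ∧ Nat.card ↥T ∣ (q + 1) * N ∧ (q + 1) * N ∣ 2 * Nat.card ↥T ∧
      ∀ y ∈ T, orderOf y = r → Subgroup.centralizer {y} ≤ T := by
  have := finite_W typ7 CoxeterMatrix.E₇.toCoxeterSystem
  have hrq : (r : ℤ) ∣ 1 - (q : ℤ) ^ 3 + (q : ℤ) ^ 6 := by rw [← hN]; exact Int.natCast_dvd_natCast.2 hrN
  have hG : ∀ s, ¬ (r : ℤ) ∣ Gq DataE7h.B (q : ℤ) (DataE7h.R s) := by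
    intro s hs
    rcases DataE7h.dvd_of_G hrq s hs with h1 | h1
    · exact not_dvd_int (m := 1) (by norm_num) (by omega) h1
    · exact not_dvd_int (m := 3) (by norm_num) (by omega) h1
  have hN' : (((q + 1) * N : ℕ) : ℤ) = 1 + (q : ℤ) - (q : ℤ) ^ 3 - (q : ℤ) ^ 4 + (q : ℤ) ^ 6 + (q : ℤ) ^ 7 := by
    push_cast
    rw [hN]
    ring
  have hqN : q.Coprime ((q + 1) * N) := UntwData.coprime_of_eq (a := 1 - (q : ℤ) ^ 2 - (q : ℤ) ^ 3 + (q : ℤ) ^ 5 + (q : ℤ) ^ 6) (by rw [hN']; ring)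
  obtain ⟨T, h1, h3, h4, h5, -⟩ := UntwT.untw_T typ7 CoxeterMatrix.E₇.toCoxeterSystem (by norm_num) hF
    TorusChar.invC_E7 (by norm_num) DataE7h.hA DataE7h.chainOK DataE7h.cycOK DataE7h.rootOK (N := (q + 1) * N)
    (by rw [DataE7h.fN_eq, hN']) hqN (d := 2) (Or.inl rfl)
  exact ⟨T, h1, h3, h4, h5 r hr (notW7 hr h7) hG⟩

theorem torus14 {q N : ℕ} (hF : Fintype.card F = q) (hN : (N : ℤ) = 1 - (q : ℤ) + (q : ℤ) ^ 2 - (q : ℤ) ^ 3 + (q : ℤ) ^ 4 - (q : ℤ) ^ 5 + (q : ℤ) ^ 6) {r : ℕ} (hr : r.Prime)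
    (h7 : 8 < r) (hrN : r ∣ N) :
    ∃ T : Subgroup ↥(chevE7.group F), IsCyclic ↥T ∧ Nat.card ↥T ∣ (q + 1) * N ∧ (q + 1) * N ∣ 2 * Nat.card ↥T ∧
      ∀ y ∈ T, orderOf y = r → Subgroup.centralizer {y} ≤ T := by
  have := finite_W typ7 CoxeterMatrix.E₇.toCoxeterSystem
  have hrq : (r : ℤ) ∣ 1 - (q : ℤ) + (q : ℤ) ^ 2 - (q : ℤ) ^ 3 + (q : ℤ) ^ 4 - (q : ℤ) ^ 5 + (q : ℤ) ^ 6 := by rw [← hN]; exact Int.natCast_dvd_natCast.2 hrN
  have hG : ∀ s, ¬ (r : ℤ) ∣ Gq DataE7m.B (q : ℤ) (DataE7m.R s) := by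
    intro s hs
    rcases DataE7m.dvd_of_G hrq s hs with h1 | h1 | h1
    · exact not_dvd_int (m := 1) (by norm_num) (by omega) h1
    · exact not_dvd_int (m := 2) (by norm_num) (by omega) h1
    · exact not_dvd_int (m := 7) (by norm_num) (by omega) h1
  have hN' : (((q + 1) * N : ℕ) : ℤ) = 1 + (q : ℤ) ^ 7 := by
    push_cast
    rw [hN]
    ring
  have hqN : q.Coprime ((q + 1) * N) := UntwData.coprime_of_eq (a := (q : ℤ) ^ 6) (by rw [hN']; ring)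
  obtain ⟨T, h1, h3, h4, h5, -⟩ := UntwT.untw_T typ7 CoxeterMatrix.E₇.toCoxeterSystem (by norm_num) hF
    TorusChar.invC_E7 (by norm_num) DataE7m.hA DataE7m.chainOK DataE7m.cycOK DataE7m.rootOK (N := (q + 1) * N)
    (by rw [DataE7m.fN_eq, hN']) hqN (d := 2) (Or.inl rfl)
  exact ⟨T, h1, h3, h4, h5 r hr (notW7 hr h7) hG⟩

/-- the numbers for `E₇` -/
theorem num_E7 {q p N : ℕ} (hq : 2 ≤ q) (hN : N ≤ q ^ 6) (hp : p ≤ N) : (p + 1) * ((q + 1) * N) ≤ 2 * q ^ 17 := by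
  have h1 : 1 ≤ q ^ 6 := Nat.one_le_pow _ _ (by omega)
  have h2 : 2 ^ 1 ≤ q ^ 4 := (Nat.pow_le_pow_left hq 1).trans (Nat.pow_le_pow_right (by omega) (by norm_num))
  calc (p + 1) * ((q + 1) * N) ≤ (2 * q ^ 6) * ((2 * q) * q ^ 6) :=
        Nat.mul_le_mul (by omega) (Nat.mul_le_mul (by omega) hN)
    _ = 2 * (2 ^ 1 * q ^ 13) := by ring
    _ ≤ 2 * (q ^ 4 * q ^ 13) := Nat.mul_le_mul_left _ (Nat.mul_le_mul_right _ h2)
    _ = 2 * q ^ 17 := by ring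

/-- **`E₇(q)`, `q` of order 14 or 18.** -/
theorem row_E7 {p : ℕ} [hp : Fact p.Prime] (ho : orderOf (Fintype.card F : ZMod p) ∈ [14, 18]) :
    FprRow (p + 1) 1 p ↥(chevE7.group F) := by
  have hs := (Cfsg.Agent.S1054.result (F := F) chevE7 (by simp)).1
  obtain ⟨q, hF⟩ : ∃ q, Fintype.card F = q := ⟨_, rfl⟩
  have hq2 : 2 ≤ q := by rw [← hF]; exact Fintype.one_lt_card
  rw [hF] at ho
  have hi : ∀ H : Subgroup ↥(chevE7.group F), H ≠ ⊤ → 2 * q ^ 17 ≤ H.index := fun H hH => by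
    rw [← hF]; exact Cfsg.Agent.H934.HeisE7.two_mul_le hs H hH
  simp only [List.mem_cons, List.not_mem_nil, or_false] at ho
  obtain ⟨a, rfl⟩ : ∃ a, q = a + 2 := ⟨q - 2, by omega⟩
  rcases ho with ho | ho
  · obtain ⟨N, hN⟩ : ∃ N : ℕ, (N : ℤ) = 1 - ((a + 2 : ℕ) : ℤ) + ((a + 2 : ℕ) : ℤ) ^ 2 - ((a + 2 : ℕ) : ℤ) ^ 3 +
        ((a + 2 : ℕ) : ℤ) ^ 4 - ((a + 2 : ℕ) : ℤ) ^ 5 + ((a + 2 : ℕ) : ℤ) ^ 6 :=
      ⟨1 + (a + 1) * (a + 2) + (a + 1) * (a + 2) ^ 3 + (a + 1) * (a + 2) ^ 5, by push_cast; ring⟩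
    have hpN := dvd_14 ho hN
    have hp8 := le_of_ord hp.out (by norm_num) ho
    have hN1 : 0 < N ∧ N ≤ (a + 2) ^ 6 := by
      have : (N : ℤ) = ((1 + (a + 1) * (a + 2) + (a + 1) * (a + 2) ^ 3 + (a + 1) * (a + 2) ^ 5 : ℕ) : ℤ) := by
        rw [hN]; push_cast; ring
      rw [Nat.cast_inj] at this
      rw [this]
      refine ⟨by positivity, ?_⟩
      have h1 : (a + 2) ^ 6 = (a + 1) * (a + 2) ^ 5 + (a + 2) ^ 5 := by ring
      have h2 : (a + 2) ^ 5 = (a + 1) * (a + 2) ^ 4 + (a + 2) ^ 4 := by ring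
      have h3 : (a + 2) ^ 4 = (a + 1) * (a + 2) ^ 3 + (a + 2) ^ 3 := by ring
      have h4 : (a + 2) ^ 3 = (a + 1) * (a + 2) ^ 2 + (a + 2) ^ 2 := by ring
      have h5 : (a + 2) ^ 2 = (a + 1) * (a + 2) + (a + 2) := by ring
      omega
    obtain ⟨T, -, h1, h2, h3⟩ := torus14 hF hN hp.out (by omega) hpN
    refine row_of_torus h1 h2 (hpN.mul_left _) (fun h => ?_) (Nat.mul_pos (by omega) hN1.1) h3 hi
      (num_E7 hq2 hN1.2 (Nat.le_of_dvd hN1.1 hpN))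
    have := Nat.le_of_dvd (by norm_num) h
    omega
  · obtain ⟨N, hN⟩ : ∃ N : ℕ, (N : ℤ) = 1 - ((a + 2 : ℕ) : ℤ) ^ 3 + ((a + 2 : ℕ) : ℤ) ^ 6 :=
      ⟨1 + (a + 2) ^ 3 * (a * (a ^ 2 + 6 * a + 12) + 7), by push_cast; ring⟩
    have hpN := dvd_18 ho hN
    have hp8 := le_of_ord hp.out (by norm_num) ho
    have hN1 : 0 < N ∧ N ≤ (a + 2) ^ 6 := by
      have h0 : (1 : ℤ) ≤ ((a + 2 : ℕ) : ℤ) ^ 3 := by
        have : 1 ≤ (a + 2) ^ 3 := Nat.one_le_pow _ _ (by omega)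
        exact_mod_cast this
      have h1 : (N : ℤ) ≤ (((a + 2) ^ 6 : ℕ) : ℤ) := by rw [hN]; push_cast at h0 ⊢; linarith
      have h2 : (0 : ℤ) < N := by
        rw [hN]
        nlinarith
      exact ⟨by exact_mod_cast h2, by exact_mod_cast h1⟩
    obtain ⟨T, -, h1, h2, h3⟩ := torus18 hF hN hp.out (by omega) hpN
    refine row_of_torus h1 h2 (hpN.mul_left _) (fun h => ?_) (Nat.mul_pos (by omega) hN1.1) h3 hi
      (num_E7 hq2 hN1.2 (Nat.le_of_dvd hN1.1 hpN))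
    have := Nat.le_of_dvd (by norm_num) h
    omega

end E7

end Cfsg.Agent.H448.FprExc
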