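import Cfsg.Agent.H398.FPR.Count
import Cfsg.Agent.H409.FprBasic

/-!
# Values of cyclotomic polynomials; small centralisers
-/

set_option autoImplicit false
open Subgroup MulAction Polynomial

namespace Cfsg.Agent.H448.FprExc

open Cfsg.Agent.H409

/-- **Small centralisers**: the direct criterion. -/
theorem row_direct {G : Type*} [Group G] [Finite G] {p : ℕ} {x : G} (hx : orderOf x = p) {c i : ℕ}
    (hc : Nat.card (centralizer ({x} : Set G)) ≤ c) (hi : ∀ H : Subgroup G, H ≠ ⊤ → i ≤ H.index)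
    (h : (p + 1) * c ≤ i) : FprRow (p + 1) 1 p G := by
  intro H hH
  refine ⟨x, ⟨1, by rw [hx, pow_one]⟩, ?_⟩
  refine Cfsg.Agent.H398.FPR.ratio_of_bound H hc (i := Nat.card H) ?_ ?_
  · exact Nat.card_le_card_of_injective (fun y : {y : H // orderOf y = orderOf x} => y.1) Subtype.val_injective
  · rw [one_mul, ← H.card_mul_index, ← mul_assoc, mul_comm (Nat.card H)]
    exact Nat.mul_le_mul_right _ (h.trans (hi H hH))

/-- the value of the cyclotomic polynomial -/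
theorem cyc_le {q m l : ℕ} (hq : 2 ≤ q) (hm : m.totient = l) :
    0 < ((Polynomial.cyclotomic m ℤ).eval ((q : ℕ) : ℤ)).natAbs ∧
      ((Polynomial.cyclotomic m ℤ).eval ((q : ℕ) : ℤ)).natAbs ≤ (q + 1) ^ l := by
  have h1 : (1 : ℝ) < q := by exact_mod_cast hq
  have h2 := Polynomial.cyclotomic_eval_le_add_one_pow_totient h1 m
  rw [hm] at h2
  have h3 : (Polynomial.cyclotomic m ℝ).eval (q : ℝ) = (((Polynomial.cyclotomic m ℤ).eval ((q : ℕ) : ℤ) : ℤ) : ℝ) := by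
    rw [← Polynomial.map_cyclotomic_int m ℝ]
    have := Polynomial.eval_intCast_map (Int.castRingHom ℝ) (Polynomial.cyclotomic m ℤ) ((q : ℕ) : ℤ)
    push_cast at this
    simpa using this
  have h4 := Polynomial.cyclotomic_pos' m h1
  rw [h3] at h2 h4
  have h5 : 0 < (Polynomial.cyclotomic m ℤ).eval ((q : ℕ) : ℤ) := by exact_mod_cast h4
  have h6 : (Polynomial.cyclotomic m ℤ).eval ((q : ℕ) : ℤ) ≤ (((q + 1) ^ l : ℕ) : ℤ) := by
    push_cast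
    exact_mod_cast h2
  refine ⟨Int.natAbs_pos.2 h5.ne', ?_⟩
  rw [← Int.ofNat_le, Int.natAbs_of_nonneg h5.le]
  exact h6

theorem eval_cyc3 (q : ℤ) : (cyclotomic 3 ℤ).eval q = q ^ 2 + q + 1 := by
  rw [cyclotomic_three]
  simp

theorem eval_cyc6 (q : ℤ) : (cyclotomic 6 ℤ).eval q = q ^ 2 - q + 1 := by
  rw [cyclotomic_six]
  simp

theorem eval_cyc8 (q : ℤ) : (cyclotomic 8 ℤ).eval q = q ^ 4 + 1 := by
  have h := cyclotomic_expand_eq_cyclotomic Nat.prime_two (show 2 ∣ 4 by norm_num) ℤ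
  have h' := cyclotomic_expand_eq_cyclotomic Nat.prime_two (show 2 ∣ 2 by norm_num) ℤ
  rw [show 4 * 2 = 8 from rfl] at h
  rw [show 2 * 2 = 4 from rfl, cyclotomic_two] at h'
  rw [← h, ← h', expand_eval, expand_eval]
  simp
  ring

theorem eval_cyc9 (q : ℤ) : (cyclotomic 9 ℤ).eval q = q ^ 6 + q ^ 3 + 1 := by
  have h := cyclotomic_expand_eq_cyclotomic Nat.prime_three (show 3 ∣ 3 by norm_num) ℤ
  rw [show 3 * 3 = 9 from rfl, cyclotomic_three] at h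
  rw [← h, expand_eval]
  simp
  ring

theorem eval_cyc12 (q : ℤ) : (cyclotomic 12 ℤ).eval q = q ^ 4 - q ^ 2 + 1 := by
  have h := cyclotomic_expand_eq_cyclotomic Nat.prime_two (show 2 ∣ 6 by norm_num) ℤ
  rw [show 6 * 2 = 12 from rfl, cyclotomic_six] at h
  rw [← h, expand_eval]
  simp
  ring

theorem eval_cyc18 (q : ℤ) : (cyclotomic 18 ℤ).eval q = q ^ 6 - q ^ 3 + 1 := by
  have h := cyclotomic_expand_eq_cyclotomic Nat.prime_three (show 3 ∣ 6 by norm_num) ℤ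
  rw [show 6 * 3 = 18 from rfl, cyclotomic_six] at h
  rw [← h, expand_eval]
  simp
  ring

theorem nat3 (q : ℕ) : ((cyclotomic 3 ℤ).eval ((q : ℕ) : ℤ)).natAbs = q ^ 2 + q + 1 := by
  rw [eval_cyc3, show ((q : ℕ) : ℤ) ^ 2 + q + 1 = ((q ^ 2 + q + 1 : ℕ) : ℤ) by push_cast; ring, Int.natAbs_natCast]

theorem nat6 (q : ℕ) : ((cyclotomic 6 ℤ).eval ((q : ℕ) : ℤ)).natAbs + q = q ^ 2 + 1 := by
  have h1 : q ≤ q ^ 2 := Nat.le_self_pow (by norm_num) q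
  rw [eval_cyc6, show ((q : ℕ) : ℤ) ^ 2 - q + 1 = ((q ^ 2 - q + 1 : ℕ) : ℤ) by push_cast [h1]; ring, Int.natAbs_natCast]
  omega

theorem nat8 (q : ℕ) : ((cyclotomic 8 ℤ).eval ((q : ℕ) : ℤ)).natAbs = q ^ 4 + 1 := by
  rw [eval_cyc8, show ((q : ℕ) : ℤ) ^ 4 + 1 = ((q ^ 4 + 1 : ℕ) : ℤ) by push_cast; ring, Int.natAbs_natCast]

theorem nat9 (q : ℕ) : ((cyclotomic 9 ℤ).eval ((q : ℕ) : ℤ)).natAbs = q ^ 6 + q ^ 3 + 1 := by
  rw [eval_cyc9, show ((q : ℕ) : ℤ) ^ 6 + q ^ 3 + 1 = ((q ^ 6 + q ^ 3 + 1 : ℕ) : ℤ) by push_cast; ring, Int.natAbs_natCast]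

theorem pow_le' {q a b : ℕ} (ha : 0 < a) (h : a ≤ b) : q ^ a ≤ q ^ b := by
  rcases Nat.eq_zero_or_pos q with rfl | h1
  · rw [zero_pow ha.ne']
    exact Nat.zero_le _
  · exact Nat.pow_le_pow_right h1 h

theorem nat12 (q : ℕ) : ((cyclotomic 12 ℤ).eval ((q : ℕ) : ℤ)).natAbs + q ^ 2 = q ^ 4 + 1 := by
  have h1 : q ^ 2 ≤ q ^ 4 := pow_le' (by norm_num) (by norm_num)
  rw [eval_cyc12, show ((q : ℕ) : ℤ) ^ 4 - q ^ 2 + 1 = ((q ^ 4 - q ^ 2 + 1 : ℕ) : ℤ) by push_cast [h1]; ring,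
    Int.natAbs_natCast]
  omega

theorem nat18 (q : ℕ) : ((cyclotomic 18 ℤ).eval ((q : ℕ) : ℤ)).natAbs + q ^ 3 = q ^ 6 + 1 := by
  have h1 : q ^ 3 ≤ q ^ 6 := pow_le' (by norm_num) (by norm_num)
  rw [eval_cyc18, show ((q : ℕ) : ℤ) ^ 6 - q ^ 3 + 1 = ((q ^ 6 - q ^ 3 + 1 : ℕ) : ℤ) by push_cast [h1]; ring,
    Int.natAbs_natCast]
  omega

end Cfsg.Agent.H448.FprExc
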